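import Groth.Agent.Et18.LocCoh.Split
import Groth.Agent.Et18.LocCohShift
import Groth.Agent.Et18.OverSite
import Mathlib.CategoryTheory.Abelian.Injective.Resolution

/-!
# Sections with support: injectives and locality
-/

set_option autoImplicit false
set_option linter.all false
set_option backward.isDefEq.respectTransparency.types false
set_option backward.isDefEq.respectTransparency false
set_option backward.defeqAttrib.useBackward true

universe u

open CategoryTheory CategoryTheory.Limits AlgebraicGeometry Opposite

namespace Groth.Agent.Et18.LocCoh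

theorem restrAlong_additive' {V Y : Scheme.{u}} (g : V ⟶ Y) [Etale g] [EtShriek.JCont g] :
    (EtShriek.restrAlong g).Additive :=
  Functor.additive_of_preserves_binary_products _

variable {X U : Scheme.{u}} (j : U ⟶ X) [IsOpenImmersion j]

theorem isZero_pull_secSupp (F : EtCoh.Ab X) : IsZero ((EtCoh.pull j).obj ((EtDual.secSupp j).obj F)) := by
  let η := EtDual.unitApp j F
  have : IsSplitMono ((EtCoh.pull j).map η) :=
    ⟨⟨(EtCoh.pullPushAdj j).counit.app _, (EtCoh.pullPushAdj j).left_triangle_components F⟩⟩
  exact IsZero.of_iso (isZero_kernel_of_mono _) (PreservesKernel.iso _ η)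

theorem injective_secSupp [EtShriek.JCont j] (I : EtCoh.Ab X) [Injective I] :
    Injective ((EtDual.secSupp j).obj I) := by
  refine ⟨fun {A B} h m _ => ?_⟩
  have := restrAlong_additive' j
  let b := Injective.factorThru (h ≫ kernel.ι (EtDual.unitApp j I)) m
  let R := EtShriek.restrAlong j
  have hz : IsZero (R.obj ((EtDual.secSupp j).obj I)) :=
    IsZero.of_iso (isZero_pull_secSupp j I) ((pullRestrIso j).app _).symm
  have hm : R.map m ≫ R.map b = 0 := by
    rw [← R.map_comp, Injective.comp_factorThru, R.map_comp, hz.eq_of_tgt (R.map h) 0, zero_comp]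
  let t : R.obj (cokernel m) ⟶ R.obj I :=
    (PreservesCokernel.iso R m).hom ≫ cokernel.desc (R.map m) (R.map b) hm
  obtain ⟨s, hs⟩ := LocCohShift.exists_lift_restr j t
  have hb : R.map (b - cokernel.π m ≫ s) = 0 := by
    rw [R.map_sub, R.map_comp, hs, sub_eq_zero]
    simp [t]
  have hu : (b - cokernel.π m ≫ s) ≫ EtDual.unitApp j I = 0 := by
    apply ((EtCoh.pullPushAdj j).homEquiv _ _).symm.injective
    have h1 : (EtCoh.pull j).map (b - cokernel.π m ≫ s) = 0 := by
      rw [← cancel_mono ((pullRestrIso j).hom.app I), (pullRestrIso j).hom.naturality, hb, comp_zero, zero_comp]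
    rw [Adjunction.homEquiv_naturality_left_symm, Adjunction.homEquiv_counit, h1, zero_comp,
      Adjunction.homEquiv_counit, Functor.map_zero, zero_comp]
  refine ⟨kernel.lift _ _ hu, ?_⟩
  rw [← cancel_mono (kernel.ι (EtDual.unitApp j I)), Category.assoc, kernel.lift_ι, Preadditive.comp_sub,
    cokernel.condition_assoc, zero_comp, sub_zero, Injective.comp_factorThru]

/-- The complex computing local cohomology. -/
noncomputable abbrev suppComplex (F : EtCoh.Ab X) : CochainComplex (EtCoh.Ab X) ℕ :=
  ((EtDual.secSupp j).mapHomologicalComplex _).obj (injectiveResolution F).cocomplex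

theorem injective_suppComplex [EtShriek.JCont j] (F : EtCoh.Ab X) (i : ℕ) : Injective ((suppComplex j F).X i) :=
  injective_secSupp j _

/-- `locCoh` as homology. -/
noncomputable def locCohIso (F : EtCoh.Ab X) (p : ℕ) :
    (EtDual.locCoh j p).obj F ≅ (suppComplex j F).homology p :=
  (injectiveResolution F).isoRightDerivedObj (EtDual.secSupp j) p

/-- Left exact functors applied to the complex of sections with support, below the first nonvanishing degree. -/
theorem nonempty_derived_comp_iso [EtShriek.JCont j] {D : Type*} [Category D] [Abelian D] (G : EtCoh.Ab X ⥤ D)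
    [G.Additive] [PreservesFiniteLimits G] (F : EtCoh.Ab X) (m : ℕ)
    (h : ∀ p < m, IsZero ((EtDual.locCoh j p).obj F)) (p : ℕ) (hp : p ≤ m) :
    Nonempty (((EtDual.secSupp j ⋙ G).rightDerived p).obj F ≅ G.obj ((EtDual.locCoh j p).obj F)) := by
  have := injective_suppComplex j F
  obtain ⟨e⟩ := nonempty_homology_map_iso G (suppComplex j F) m
    (fun i hi => (HomologicalComplex.exactAt_iff_isZero_homology _ _).2 ((h i hi).of_iso (locCohIso j F i).symm)) p hp
  exact ⟨(injectiveResolution F).isoRightDerivedObj (EtDual.secSupp j ⋙ G) p ≪≫ e ≪≫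
    G.mapIso (locCohIso j F p).symm⟩

variable (W : X.Etale)

/-- The structure morphism. -/
abbrev str : W.left ⟶ X := W.hom

instance : Etale (str W) := etale_structureHom W

instance : EtShriek.JCont (str W) := jCont_structureHom W

/-- Restriction to an étale scheme. -/
noncomputable abbrev res : EtCoh.Ab X ⥤ EtCoh.Ab W.left := EtShriek.restrAlong (str W)

instance : (res W).Additive := restrAlong_additive' _

theorem injective_res (I : EtCoh.Ab X) [Injective I] : Injective ((res W).obj I) :=
  Injective.injective_of_adjoint (EtShriek.extZeroAdj (str W)) I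

theorem isZero_pull_extZero_res {S : EtCoh.Ab X} (hS : IsZero ((EtCoh.pull j).obj S)) :
    IsZero ((EtCoh.pull j).obj ((EtShriek.extZero (str W)).obj ((res W).obj S))) := by
  refine isZero_of_stalks fun y => IsZero.of_iso ?_ ((stalkPullIso j (sepPoint U y)).app _)
  refine IsZero.of_iso ?_ (extZeroStalkIso (str W) (sepPoint U y ≫ j) _)
  have hz : ∀ v : PointLift (str W) (sepPoint U y ≫ j), IsZero ((EtCoh.stalk v.1).obj ((res W).obj S)) := fun v => by
    refine IsZero.of_iso ?_ ((stalkRestrIso (str W) v.1).app S)
    rw [v.2]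
    exact IsZero.of_iso (Functor.map_isZero (EtCoh.stalk (sepPoint U y)) hS) ((stalkPullIso j (sepPoint U y)).app S).symm
  rw [IsZero.iff_id_eq_zero]
  exact Sigma.hom_ext _ _ fun v => (hz v).eq_of_src _ _

/-- Morphisms between restrictions respect sections with support. -/
theorem res_ι_comp_unit {F G : EtCoh.Ab X} (ψ : (res W).obj F ⟶ (res W).obj G) :
    (res W).map (kernel.ι (EtDual.unitApp j F)) ≫ ψ ≫ (res W).map (EtDual.unitApp j G) = 0 := by
  apply ((EtShriek.extZeroAdj (str W)).homEquiv _ _).symm.injective
  apply ((EtCoh.pullPushAdj j).homEquiv _ _).symm.injective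
  exact (isZero_pull_extZero_res j W (isZero_pull_secSupp j F)).eq_of_src _ _

theorem exists_low {F G : EtCoh.Ab X} (ψ : (res W).obj F ⟶ (res W).obj G) :
    ∃ l : (res W).obj ((EtDual.secSupp j).obj F) ⟶ (res W).obj ((EtDual.secSupp j).obj G),
      l ≫ (res W).map (kernel.ι (EtDual.unitApp j G)) = (res W).map (kernel.ι (EtDual.unitApp j F)) ≫ ψ := by
  let e := PreservesKernel.iso (res W) (EtDual.unitApp j G)
  refine ⟨kernel.lift _ _ ((Category.assoc _ _ _).trans (res_ι_comp_unit j W ψ)) ≫ e.inv, ?_⟩
  rw [Category.assoc, PreservesKernel.iso_inv_ι]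
  exact kernel.lift_ι _ _ _

/-- The induced morphism on sections with support. -/
noncomputable def low {F G : EtCoh.Ab X} (ψ : (res W).obj F ⟶ (res W).obj G) :
    (res W).obj ((EtDual.secSupp j).obj F) ⟶ (res W).obj ((EtDual.secSupp j).obj G) :=
  (exists_low j W ψ).choose

@[reassoc]
theorem low_ι {F G : EtCoh.Ab X} (ψ : (res W).obj F ⟶ (res W).obj G) :
    low j W ψ ≫ (res W).map (kernel.ι (EtDual.unitApp j G)) = (res W).map (kernel.ι (EtDual.unitApp j F)) ≫ ψ :=
  (exists_low j W ψ).choose_spec

theorem ext_low {F G : EtCoh.Ab X}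
    {a b : (res W).obj ((EtDual.secSupp j).obj F) ⟶ (res W).obj ((EtDual.secSupp j).obj G)}
    (h : a ≫ (res W).map (kernel.ι (EtDual.unitApp j G)) = b ≫ (res W).map (kernel.ι (EtDual.unitApp j G))) : a = b :=
  (cancel_mono _).1 h

theorem low_comp {F G H : EtCoh.Ab X} (ψ : (res W).obj F ⟶ (res W).obj G) (χ : (res W).obj G ⟶ (res W).obj H) :
    low j W (ψ ≫ χ) = low j W ψ ≫ low j W χ := ext_low j W (by simp [low_ι, low_ι_assoc])

theorem low_id (F : EtCoh.Ab X) : low j W (𝟙 ((res W).obj F)) = 𝟙 _ := ext_low j W (by simp [low_ι])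

theorem low_add {F G : EtCoh.Ab X} (ψ χ : (res W).obj F ⟶ (res W).obj G) :
    low j W (ψ + χ) = low j W ψ + low j W χ := ext_low j W (by simp [low_ι])

theorem low_map {F G : EtCoh.Ab X} (f : F ⟶ G) : low j W ((res W).map f) = (res W).map ((EtDual.secSupp j).map f) :=
  ext_low j W (by rw [low_ι, ← Functor.map_comp, ← Functor.map_comp]; simp)

/-- A chain map between restricted complexes, on sections with support. -/
noncomputable def lowHom {I J : CochainComplex (EtCoh.Ab X) ℕ}
    (a : ((res W).mapHomologicalComplex _).obj I ⟶ ((res W).mapHomologicalComplex _).obj J) :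
    ((EtDual.secSupp j ⋙ res W).mapHomologicalComplex _).obj I ⟶
      ((EtDual.secSupp j ⋙ res W).mapHomologicalComplex _).obj J where
  f i := low j W (a.f i)
  comm' i k _ := by
    change low j W (a.f i) ≫ (res W).map ((EtDual.secSupp j).map (J.d i k)) =
      (res W).map ((EtDual.secSupp j).map (I.d i k)) ≫ low j W (a.f k)
    rw [← low_map, ← low_map, ← low_comp, ← low_comp]
    exact congrArg (low j W) (a.comm i k)

/-- A homotopy between restricted complexes, on sections with support. -/
noncomputable def lowHomotopy {I J : CochainComplex (EtCoh.Ab X) ℕ}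
    {a b : ((res W).mapHomologicalComplex _).obj I ⟶ ((res W).mapHomologicalComplex _).obj J} (h : Homotopy a b) :
    Homotopy (lowHom j W a) (lowHom j W b) where
  hom i k := low j W (h.hom i k)
  zero i k hik := by
    rw [h.zero i k hik]
    exact ext_low j W (by simp [low_ι])
  comm i := by
    change low j W (a.f i) = _
    rw [h.comm i]
    simp only [dNext, prevD, AddMonoidHom.mk'_apply]
    refine (low_add j W _ _).trans (congrArg₂ (· + ·) ((low_add j W _ _).trans (congrArg₂ (· + ·) ?_ ?_)) rfl)
    · exact (low_comp j W _ _).trans (congrArg (· ≫ _) (low_map j W (I.d i _)))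
    · exact (low_comp j W _ _).trans (congrArg (_ ≫ ·) (low_map j W (J.d _ i)))

/-- Vanishing of local cohomology only depends on the sheaf locally. -/
theorem isZero_res_locCoh {F F' : EtCoh.Ab X} (e : (res W).obj F' ≅ (res W).obj F) (p : ℕ)
    (h : IsZero ((EtDual.locCoh j p).obj F)) : IsZero ((res W).obj ((EtDual.locCoh j p).obj F')) := by
  let R := res W
  let rRes : ∀ G : EtCoh.Ab X, InjectiveResolution (R.obj G) := fun G =>
    { cocomplex := (R.mapHomologicalComplex _).obj (injectiveResolution G).cocomplex
      injective := fun n => injective_res W _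
      ι := (HomologicalComplex.singleMapHomologicalComplex _ _ _).inv.app G ≫
        (R.mapHomologicalComplex _).map (injectiveResolution G).ι }
  let a := InjectiveResolution.desc e.hom (rRes F) (rRes F')
  let b := InjectiveResolution.desc e.inv (rRes F') (rRes F)
  have H : Homotopy (a ≫ b) (𝟙 (rRes F').cocomplex) :=
    InjectiveResolution.descHomotopy (𝟙 (R.obj F')) _ _
      (by simp [a, b, ← Functor.map_comp_assoc]) (by simp)
  have H' : Homotopy (lowHom j W a ≫ lowHom j W b)
      (𝟙 (((EtDual.secSupp j ⋙ R).mapHomologicalComplex _).obj (injectiveResolution F').cocomplex)) :=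
    ((Homotopy.ofEq (by ext i : 1; exact (low_comp j W (a.f i) (b.f i)).symm)).trans (lowHomotopy j W H)).trans
      (Homotopy.ofEq (by ext i : 1; exact low_id j W _))
  have h0 := H'.homologyMap_eq p
  rw [HomologicalComplex.homologyMap_id, HomologicalComplex.homologyMap_comp] at h0
  let mid := (((EtDual.secSupp j ⋙ R).mapHomologicalComplex _).obj (injectiveResolution F).cocomplex)
  let eh : ∀ G : EtCoh.Ab X, (((EtDual.secSupp j ⋙ R).mapHomologicalComplex _).obj
      (injectiveResolution G).cocomplex).homology p ≅ R.obj ((EtDual.locCoh j p).obj G) := fun G =>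
    ((suppComplex j G).sc p).mapHomologyIso R ≪≫ R.mapIso (locCohIso j G p).symm
  have hmid : IsZero (mid.homology p) := (Functor.map_isZero R h).of_iso (eh F)
  refine IsZero.of_iso ?_ (eh F').symm
  rw [IsZero.iff_id_eq_zero, ← h0, hmid.eq_of_tgt (HomologicalComplex.homologyMap (lowHom j W a) p) 0, zero_comp]

end Groth.Agent.Et18.LocCoh
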