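import Groth.Agent.Et18.LocCoh.Split
import Groth.Prelude.Def_RDer

/-!
# The comparison of homology is invertible in regular degrees
-/

set_option autoImplicit false
set_option backward.isDefEq.respectTransparency false

universe v v' w w'

open CategoryTheory CategoryTheory.Limits

namespace Groth.Agent.Et18.LocCoh

variable {C : Type w} [Category.{v} C] [Abelian C] {D : Type w'} [Category.{v'} D] [Abelian D]
  (Ψ : C ⥤ D) [Ψ.Additive] [PreservesFiniteLimits Ψ]

theorem isIso_cyclesComparison {ι : Type*} {c : ComplexShape ι} (K : HomologicalComplex C c) (i : ι) :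
    IsIso (RDer.cyclesComparison Ψ K i) := by
  let K' := (Ψ.mapHomologicalComplex c).obj K
  let h := KernelFork.mapIsLimit _ (K.cyclesIsKernel i (c.next i) rfl) Ψ
  let h' := K'.cyclesIsKernel i (c.next i) rfl
  have e : RDer.cyclesComparison Ψ K i = (h'.conePointUniqueUpToIso h).hom := by
    apply Fork.IsLimit.hom_ext h
    exact ((RDer.cyclesComparison_i Ψ K i).trans
      (IsLimit.conePointUniqueUpToIso_hom_comp h' h WalkingParallelPair.zero).symm)
  rw [e]
  infer_instance

theorem isIso_homologyComparison_of_regular {ι : Type*} {c : ComplexShape ι} (K : HomologicalComplex C c) (i : ι)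
    (t : K.cycles i ⟶ K.X (c.prev i))
    (ht : K.toCycles (c.prev i) i ≫ t ≫ K.toCycles (c.prev i) i = K.toCycles (c.prev i) i) :
    IsIso (RDer.homologyComparison Ψ K i) := by
  have := preservesCokernel_of_regular Ψ _ t ht
  have := isIso_cyclesComparison Ψ K i
  let K' := (Ψ.mapHomologicalComplex c).obj K
  let q := CokernelCofork.mapIsColimit _ (K.homologyIsCokernel (c.prev i) i rfl) Ψ
  have w : Ψ.map (K.toCycles (c.prev i) i) ≫ inv (RDer.cyclesComparison Ψ K i) ≫ K'.homologyπ i = 0 := by
    rw [← RDer.toCycles_cyclesComparison, Category.assoc, IsIso.hom_inv_id_assoc]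
    exact K'.toCycles_comp_homologyπ _ _
  let r : Ψ.obj (K.homology i) ⟶ K'.homology i :=
    q.desc (CokernelCofork.ofπ (inv (RDer.cyclesComparison Ψ K i) ≫ K'.homologyπ i) w)
  have hr : Ψ.map (K.homologyπ i) ≫ r = inv (RDer.cyclesComparison Ψ K i) ≫ K'.homologyπ i :=
    q.fac _ WalkingParallelPair.one
  refine ⟨r, ?_, ?_⟩
  · rw [← cancel_epi (K'.homologyπ i), RDer.homologyπ_homologyComparison_assoc, hr, IsIso.hom_inv_id_assoc,
      Category.comp_id]
  · apply Cofork.IsColimit.hom_ext q
    refine ((Category.assoc _ _ _).symm.trans (congrArg (· ≫ _) hr)).trans ?_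
    rw [Category.assoc, RDer.homologyπ_homologyComparison, IsIso.inv_hom_id_assoc]
    exact (Category.comp_id _).symm

/-- For a complex of injectives exact below `m`, the comparison of homology is invertible up to degree `m`. -/
theorem isIso_homologyComparison (K : CochainComplex C ℕ) [∀ i, Injective (K.X i)] (m : ℕ)
    (h : ∀ i < m, K.ExactAt i) (p : ℕ) (hp : p ≤ m) : IsIso (RDer.homologyComparison Ψ K p) := by
  cases p with
  | zero =>
    refine isIso_homologyComparison_of_regular Ψ K 0 0 ?_
    have h0 : K.toCycles ((ComplexShape.up ℕ).prev 0) 0 = 0 := by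
      rw [← cancel_mono (K.iCycles 0), HomologicalComplex.toCycles_i, zero_comp]
      exact K.shape _ _ (by simp)
    rw [h0, zero_comp]
  | succ p =>
    have e : ∀ a, a + 1 = p + 1 → ∃ t, K.d a (p + 1) ≫ t ≫ K.d a (p + 1) = K.d a (p + 1) := fun a ha => by
      obtain rfl : a = p := by omega
      exact exists_regular K m h a (by omega)
    obtain ⟨t, ht⟩ := e ((ComplexShape.up ℕ).prev (p + 1)) (by simp)
    refine isIso_homologyComparison_of_regular Ψ K (p + 1) (K.iCycles (p + 1) ≫ t) ?_
    rw [← cancel_mono (K.iCycles (p + 1))]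
    simp [ht]

end Groth.Agent.Et18.LocCoh
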