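import Groth.Agent.Et18.LocCoh.Basic
import Groth.Agent.Et18.SectionAgree

/-!
# Étale excision
-/

set_option autoImplicit false
set_option linter.all false
set_option backward.isDefEq.respectTransparency.types false
set_option backward.isDefEq.respectTransparency false
set_option backward.defeqAttrib.useBackward true

universe u

open CategoryTheory CategoryTheory.Limits AlgebraicGeometry Opposite

namespace Groth.Agent.Et18.LocCoh

variable {X X' U U' : Scheme.{u}}

theorem toTop_eq {V : X.Etale} (g : V ⟶ EtCoh.top X) : g = toTop V :=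
  (EtCore.topIsTerminal X).hom_ext _ _

theorem range_toTop (V : X.Etale) : Set.range (toTop V).left = Set.range V.hom := rfl

theorem mem_agreeLocus_zero_iff (F : EtCoh.Ab X) (s : EtCoh.sect F (EtCoh.top X)) (x : X) :
    x ∈ agreeLocus F s 0 ↔ (x : (EtCoh.top X).left) ∉ EtShriek.sectSupp F (EtCoh.top X) s := by
  simp only [EtShriek.sectSupp]
  constructor
  · intro h
    obtain ⟨V, hV, v, hv⟩ := Set.mem_iUnion₂.mp h
    exact fun hs => hs V (toTop V) ⟨v, hv⟩ (hV.trans (map_zero _))
  · intro h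
    change ¬ ∀ (W : X.Etale) (g : W ⟶ EtCoh.top X), (∃ w : W.left, g.left.base w = x) → F.obj.map g.op s ≠ 0 at h
    push Not at h
    obtain ⟨V, g, ⟨v, hv⟩, hg⟩ := h
    obtain rfl := toTop_eq g
    exact Set.mem_iUnion₂.mpr ⟨V, hg.trans (map_zero _).symm, v, hv⟩

/-- A section with empty support vanishes. -/
theorem eq_zero_of_sectSupp (F : EtCoh.Ab X) (V : X.Etale) (s : EtCoh.sect F V)
    (h : ∀ x, x ∉ EtShriek.sectSupp F V s) : s = 0 := by
  simp only [EtShriek.sectSupp, Set.mem_setOf_eq, not_forall, not_not] at h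
  choose W g hw hz using h
  have hG : Presieve.IsSheaf X.smallEtaleTopology (F.obj ⋙ forget AddCommGrpCat.{u + 1}) :=
    (isSheaf_iff_isSheaf_of_type _ _).mp
      ((sheafCompose X.smallEtaleTopology (forget AddCommGrpCat.{u + 1})).obj F).property
  have hcov : Sieve.ofArrows _ g ∈ X.smallEtaleTopology V := by
    rw [Scheme.ofArrows_mem_smallEtaleTopology_iff, Set.eq_univ_iff_forall]
    exact fun y => Set.mem_iUnion.mpr ⟨y, hw y⟩
  refine (hG _ hcov).isSeparatedFor.ext fun Z k hk => ?_
  obtain ⟨_, a, _, ⟨x⟩, rfl⟩ := hk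
  change F.obj.map (a ≫ g x).op s = F.obj.map (a ≫ g x).op (0 : EtCoh.sect F V)
  rw [op_comp, Functor.map_comp, ConcreteCategory.comp_apply, ConcreteCategory.comp_apply, hz, map_zero, map_zero,
    map_zero]

/-- Supports are compatible with inverse images. -/
theorem sectSupp_map (F : EtCoh.Ab X) {V W : X.Etale} (g : W ⟶ V) (s : EtCoh.sect F V) (x : W.left) :
    x ∈ EtShriek.sectSupp F W (F.obj.map g.op s) ↔ g.left x ∈ EtShriek.sectSupp F V s := by
  obtain ⟨v, hv⟩ := exists_fiber_point (sepPoint X (W.hom x)) W x (sepPoint_default X _).symm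
  let P := Scheme.pointSmallEtale (sepPoint X (W.hom x))
  have hgerm : P.toPresheafFiber W v F.obj (F.obj.map g.op s) = P.toPresheafFiber V (P.fiber.map g v) F.obj s :=
    GrothendieckTopology.Point.toPresheafFiber_w_apply ..
  have hp : fiberPt (P.fiber.map g v) = g.left x := (fiberPt_map g v).symm.trans (congrArg g.left hv)
  constructor
  · intro h
    by_contra hc
    rw [← hp] at hc
    refine not_mem_sectSupp_of_germ_eq_zero F _ W _ v (hgerm.trans ?_) (hv.symm ▸ h)
    exact germ_eq_zero_of_not_mem_sectSupp F _ V s _ hc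
  · intro h
    by_contra hc
    rw [← hv] at hc
    refine not_mem_sectSupp_of_germ_eq_zero F _ V s _ (hgerm.symm.trans ?_) (hp.symm ▸ h)
    exact germ_eq_zero_of_not_mem_sectSupp F _ W _ v hc

/-- The inclusion of the sections with support. -/
noncomputable abbrev gamι (j : U ⟶ X) (F : EtCoh.Ab X) :
    (EtDual.gammaSupp j).obj F ⟶ F.obj.obj (op (EtCoh.top X)) :=
  (kernel.ι (EtDual.unitApp j F)).hom.app (op (EtCoh.top X))

theorem gamι_injective (j : U ⟶ X) (F : EtCoh.Ab X) : Function.Injective (gamι j F) :=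
  (AddCommGrpCat.mono_iff_injective _).1
    (inferInstanceAs (Mono (((sheafToPresheaf _ _).map (kernel.ι (EtDual.unitApp j F))).app (op (EtCoh.top X)))))

theorem gamι_naturality (j : U ⟶ X) {F G : EtCoh.Ab X} (φ : F ⟶ G) (a : (EtDual.gammaSupp j).obj F) :
    gamι j G ((EtDual.gammaSupp j).map φ a) = φ.hom.app _ (gamι j F a) := by
  have e : (EtDual.secSupp j).map φ ≫ kernel.ι (EtDual.unitApp j G) = kernel.ι (EtDual.unitApp j F) ≫ φ := by
    simp [EtDual.secSupp]
  exact ConcreteCategory.congr_hom (congrArg (fun k => k.hom.app (op (EtCoh.top X))) e) a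

/-- The sections with support. -/
theorem mem_range_gamι_iff (j : U ⟶ X) (F : EtCoh.Ab X) (s : EtCoh.sect F (EtCoh.top X)) :
    (∃ a, gamι j F a = s) ↔ ∀ y : U, (j y : (EtCoh.top X).left) ∉ EtShriek.sectSupp F (EtCoh.top X) s := by
  let η := EtDual.unitApp j F
  let S := ShortComplex.mk (kernel.ι η) η (kernel.condition _)
  let E := sheafToPresheaf X.smallEtaleTopology AddCommGrpCat.{u + 1} ⋙
    (evaluation X.Etaleᵒᵖ AddCommGrpCat.{u + 1}).obj (op (EtCoh.top X))
  have hex : (S.map E).Exact :=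
    ShortComplex.exact_of_f_is_kernel _ (isLimitForkMapOfIsLimit' E (kernel.condition η) (kernelIsKernel η))
  have h1 : η.hom.app (op (EtCoh.top X)) s = 0 ↔ Set.range j ⊆ (agreeLocus F s 0 : Set X) :=
    ⟨fun h => (pull_eq_iff F s 0 U j).2 (h.trans (map_zero _).symm),
      fun h => ((pull_eq_iff F s 0 U j).1 h).trans (map_zero _)⟩
  rw [Set.range_subset_iff] at h1
  refine Iff.trans ⟨fun ⟨a, ha⟩ => ?_, fun h => (ShortComplex.ab_exact_iff _).1 hex s h⟩
    (h1.trans (forall_congr' fun y => mem_agreeLocus_zero_iff F s (j y)))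
  rw [← ha]
  exact ConcreteCategory.congr_hom (congrArg (fun k => k.hom.app (op (EtCoh.top X))) (kernel.condition η)) a

variable (f : X' ⟶ X) [Etale f] [EtShriek.JCont f]

/-- `X'` in the étale site of `X`. -/
noncomputable abbrev src : X.Etale := (EtShriek.compEtale f).obj (EtCoh.top X')

theorem sectSupp_res (F : EtCoh.Ab X) (s : EtCoh.sect F (src f)) (x : X') :
    (x : (EtCoh.top X').left) ∈ EtShriek.sectSupp ((EtShriek.restrAlong f).obj F) (EtCoh.top X') s ↔
      (x : (src f).left) ∈ EtShriek.sectSupp F (src f) s := by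
  constructor
  · intro h V k ⟨v, hv⟩ h0
    haveI : Etale k.left := etale_map_left k
    let V' : X'.Etale := Scheme.Etale.mk k.left
    let i : (EtShriek.compEtale f).obj V' ⟶ V := MorphismProperty.Over.homMk (𝟙 V.left)
      (by
        refine (Category.id_comp _).trans ?_
        refine (MorphismProperty.Over.w k).symm.trans ?_
        show k.left ≫ 𝟙 _ ≫ f = k.left ≫ f
        rw [Category.id_comp])
    have e : (EtShriek.compEtale f).map (toTop V') = i ≫ k := etaleHom_ext (by
      show k.left = 𝟙 _ ≫ k.left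
      rw [Category.id_comp])
    refine h V' (toTop V') ⟨v, hv⟩ ?_
    show F.obj.map ((EtShriek.compEtale f).map (toTop V')).op s = 0
    rw [e, op_comp, Functor.map_comp, ConcreteCategory.comp_apply, h0, map_zero]
  · intro h V' g hv h0
    exact h _ ((EtShriek.compEtale f).map g) hv h0

variable (j : U ⟶ X) [IsOpenImmersion j] (j' : U' ⟶ X') [IsOpenImmersion j']

theorem geomPt_eq {Ω : Type u} [Field Ω] (l₁ l₂ : Spec (CommRingCat.of Ω) ⟶ X') (t : Spec (CommRingCat.of Ω))
    (hκ : Function.Surjective (f.residueFieldMap (l₁ t))) (hp : l₁ t = l₂ t) (h : l₁ ≫ f = l₂ ≫ f) : l₁ = l₂ := by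
  obtain ⟨⟨x₁, a₁⟩, rfl⟩ := (Scheme.SpecToEquivOfField Ω X').symm.surjective l₁
  obtain ⟨⟨x₂, a₂⟩, rfl⟩ := (Scheme.SpecToEquivOfField Ω X').symm.surjective l₂
  have e₁ : ((Scheme.SpecToEquivOfField Ω X').symm ⟨x₁, a₁⟩) t = x₁ :=
    Scheme.fromSpecResidueField_apply x₁ _
  have e₂ : ((Scheme.SpecToEquivOfField Ω X').symm ⟨x₂, a₂⟩) t = x₂ :=
    Scheme.fromSpecResidueField_apply x₂ _
  rw [e₁, e₂] at hp
  subst hp
  rw [e₁] at hκ
  have hf : ∀ a : X'.residueField x₁ ⟶ CommRingCat.of Ω, (Scheme.SpecToEquivOfField Ω X').symm ⟨x₁, a⟩ ≫ f =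
      (Scheme.SpecToEquivOfField Ω X).symm ⟨f x₁, f.residueFieldMap x₁ ≫ a⟩ := fun a => by
    show (Spec.map a ≫ _) ≫ f = Spec.map (f.residueFieldMap x₁ ≫ a) ≫ _
    rw [Spec.map_comp, Category.assoc, Category.assoc, Scheme.Hom.SpecMap_residueFieldMap_fromSpecResidueField]
  rw [hf, hf] at h
  have h' := (Scheme.SpecToEquivOfField Ω X).symm.injective h
  simp only [Sigma.mk.injEq, heq_eq_eq, true_and] at h'
  haveI : Epi (f.residueFieldMap x₁) := ConcreteCategory.epi_of_surjective _ hκ
  rw [cancel_epi] at h'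
  rw [h']

variable (hU' : Set.range j'.base = f.base ⁻¹' Set.range j.base)
  (hZ : Set.BijOn f.base (Set.range j'.base)ᶜ (Set.range j.base)ᶜ)
  (hκ : ∀ x' : ↥X', x' ∉ Set.range j'.base → Function.Surjective (f.residueFieldMap x'))

omit [IsOpenImmersion j'] in
include hU' in
theorem src_off (F : EtCoh.Ab X) (t : EtCoh.sect F (src f))
    (ht : ∀ x : X', (x : (src f).left) ∈ EtShriek.sectSupp F (src f) t → f x ∉ Set.range j) (x : X')
    (hx : (x : (src f).left) ∈ EtShriek.sectSupp F (src f) t) : x ∉ Set.range j' := fun h =>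
  ht x hx (show x ∈ f.base ⁻¹' Set.range j.base from hU' ▸ h)

include hU' hZ hκ in
/-- Excision for sections. -/
theorem excision_sections (F : EtCoh.Ab X) (t : EtCoh.sect F (src f))
    (ht : ∀ x : X', (x : (src f).left) ∈ EtShriek.sectSupp F (src f) t → f x ∉ Set.range j) :
    ∃! s : EtCoh.sect F (EtCoh.top X), (∀ y : U, (j y : (EtCoh.top X).left) ∉
      EtShriek.sectSupp F (EtCoh.top X) s) ∧ F.obj.map (toTop (src f)).op s = t := by
  have hW : ∀ x : X', (src f).hom (x : (src f).left) = f x := fun x => rfl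
  haveI : Etale j := inferInstance
  let Uo : X.Etale := Scheme.Etale.mk j
  let T : Bool → X.Etale := fun b => cond b (src f) Uo
  let c : ∀ b, T b ⟶ EtCoh.top X := fun b => toTop (T b)
  have hG : Presieve.IsSheaf X.smallEtaleTopology (F.obj ⋙ forget AddCommGrpCat.{u + 1}) :=
    (isSheaf_iff_isSheaf_of_type _ _).mp
      ((sheafCompose X.smallEtaleTopology (forget AddCommGrpCat.{u + 1})).obj F).property
  have hcov : Sieve.ofArrows T c ∈ X.smallEtaleTopology (EtCoh.top X) := by
    rw [Scheme.ofArrows_mem_smallEtaleTopology_iff, Set.eq_univ_iff_forall]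
    intro x
    by_cases hx : (x : X) ∈ Set.range j
    · exact Set.mem_iUnion.mpr ⟨false, hx⟩
    · obtain ⟨x', -, hx'⟩ := hZ.surjOn (show (x : X) ∈ (Set.range j.base)ᶜ from hx)
      exact Set.mem_iUnion.mpr ⟨true, x', hx'⟩
  let σ : ∀ b, EtCoh.sect F (T b) := fun b => match b with
    | true => t
    | false => 0
  have hcase : ∀ (b : Bool) (z : (T b).left), z ∈ EtShriek.sectSupp F (T b) (σ b) →
      b = true ∧ (T b).hom z ∉ Set.range j := by
    intro b z hz
    cases b
    · exact absurd (map_zero _) (hz Uo (𝟙 Uo) ⟨z, rfl⟩)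
    · exact ⟨rfl, fun h => ht z hz h⟩
  have hcompat : (Presieve.Arrows.Compatible (F.obj ⋙ forget AddCommGrpCat.{u + 1}) c σ) := by
    intro b₁ b₂ Z g₁ g₂ hg
    show F.obj.map g₁.op (σ b₁) = F.obj.map g₂.op (σ b₂)
    rw [← sub_eq_zero]
    refine eq_zero_of_sectSupp F Z _ fun z hz => ?_
    obtain ⟨v, hv⟩ := exists_fiber_point (sepPoint X (Z.hom z)) Z z (sepPoint_default X _).symm
    let P := Scheme.pointSmallEtale (sepPoint X (Z.hom z))
    rw [← hv] at hz
    refine not_mem_sectSupp_of_germ_eq_zero F _ Z _ v ?_ hz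
    rw [map_sub, sub_eq_zero, GrothendieckTopology.Point.toPresheafFiber_w_apply,
      GrothendieckTopology.Point.toPresheafFiber_w_apply]
    by_cases h₁ : fiberPt (P.fiber.map g₁ v) ∈ EtShriek.sectSupp F (T b₁) (σ b₁)
    · obtain ⟨rfl, hne⟩ := hcase _ _ h₁
      cases b₂
      · exfalso
        refine hne ?_
        rw [hom_fiberPt, ← hom_fiberPt (P.fiber.map g₂ v)]
        exact ⟨_, rfl⟩
      · have hl : P.fiber.map g₁ v = P.fiber.map g₂ v := by
          let l₁ : Spec _ ⟶ X' := (P.fiber.map g₁ v).left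
          let l₂ : Spec _ ⟶ X' := (P.fiber.map g₂ v).left
          have e : l₁ ≫ f = l₂ ≫ f := by
            have a₁ : l₁ ≫ (𝟙 X' ≫ f) = sepPoint X (Z.hom z) := Over.w (P.fiber.map g₁ v)
            have a₂ : l₂ ≫ (𝟙 X' ≫ f) = sepPoint X (Z.hom z) := Over.w (P.fiber.map g₂ v)
            rw [Category.id_comp] at a₁ a₂
            exact a₁.trans a₂.symm
          have hp : f (l₁ default) = f (l₂ default) := congrArg (fun k => k default) e
          have n₁ : l₁ default ∉ Set.range j' := fun h => hne (show f (l₁ default) ∈ Set.range j.base from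
            (show l₁ default ∈ f.base ⁻¹' Set.range j.base from hU' ▸ h))
          have n₂ : l₂ default ∉ Set.range j' := fun h => hne (hp ▸ (show f (l₂ default) ∈ Set.range j.base from
            (show l₂ default ∈ f.base ⁻¹' Set.range j.base from hU' ▸ h)))
          exact Over.OverMorphism.ext (geomPt_eq f l₁ l₂ default (hκ _ n₁) (hZ.injOn n₁ n₂ hp) e)
        rw [hl]
    · rw [germ_eq_zero_of_not_mem_sectSupp F _ (T b₁) (σ b₁) _ h₁]
      by_cases h₂ : fiberPt (P.fiber.map g₂ v) ∈ EtShriek.sectSupp F (T b₂) (σ b₂)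
      · obtain ⟨rfl, hne⟩ := hcase _ _ h₂
        cases b₁
        · exfalso
          refine hne ?_
          rw [hom_fiberPt, ← hom_fiberPt (P.fiber.map g₁ v)]
          exact ⟨_, rfl⟩
        · have hl : P.fiber.map g₁ v = P.fiber.map g₂ v := by
            let l₁ : Spec _ ⟶ X' := (P.fiber.map g₁ v).left
            let l₂ : Spec _ ⟶ X' := (P.fiber.map g₂ v).left
            have e : l₁ ≫ f = l₂ ≫ f := by
              have a₁ : l₁ ≫ (𝟙 X' ≫ f) = sepPoint X (Z.hom z) := Over.w (P.fiber.map g₁ v)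
              have a₂ : l₂ ≫ (𝟙 X' ≫ f) = sepPoint X (Z.hom z) := Over.w (P.fiber.map g₂ v)
              rw [Category.id_comp] at a₁ a₂
              exact a₁.trans a₂.symm
            have hp : f (l₁ default) = f (l₂ default) := congrArg (fun k => k default) e
            have n₂ : l₂ default ∉ Set.range j' := fun h => hne (show f (l₂ default) ∈ Set.range j.base from
              (show l₂ default ∈ f.base ⁻¹' Set.range j.base from hU' ▸ h))
            have n₁ : l₁ default ∉ Set.range j' := fun h => hne (hp ▸ (show f (l₁ default) ∈ Set.range j.base from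
              (show l₁ default ∈ f.base ⁻¹' Set.range j.base from hU' ▸ h)))
            exact Over.OverMorphism.ext (geomPt_eq f l₁ l₂ default (hκ _ n₁) (hZ.injOn n₁ n₂ hp) e)
          exact absurd (hl ▸ h₂) h₁
      · rw [germ_eq_zero_of_not_mem_sectSupp F _ (T b₂) (σ b₂) _ h₂]
  obtain ⟨s, hs, huniq⟩ := (Presieve.isSheafFor_arrows_iff _ _).1
    ((Presieve.isSheafFor_iff_generate _).2 (hG _ hcov)) σ hcompat
  have hs1 : F.obj.map (toTop (src f)).op s = t := hs true
  have hs0 : F.obj.map (toTop Uo).op s = 0 := hs false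
  refine ⟨s, ⟨fun y hy => ?_, hs1⟩, fun s' ⟨h', h1'⟩ => huniq s' fun b => ?_⟩
  · exact hy Uo (toTop Uo) ⟨y, rfl⟩ hs0
  · cases b
    · exact eq_zero_of_sectSupp F Uo _ fun y hy => h' y ((sectSupp_map F (toTop Uo) s' y).1 hy)
    · exact h1'

include hU' hZ hκ in
theorem exists_gamma_equiv (F : EtCoh.Ab X) :
    ∃ e : (EtDual.gammaSupp j).obj F ≅ (EtDual.gammaSupp j').obj ((EtShriek.restrAlong f).obj F),
      ∀ a, gamι j' _ (e.hom a) = F.obj.map (toTop (src f)).op (gamι j F a) := by
  let R := (EtShriek.restrAlong f).obj F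
  have himg : ∀ a, ∃ b, gamι j' R b = F.obj.map (toTop (src f)).op (gamι j F a) := fun a => by
    rw [mem_range_gamι_iff]
    intro y hy
    rw [sectSupp_res, sectSupp_map] at hy
    have hj : f (j' y) ∈ Set.range j := show j' y ∈ f.base ⁻¹' Set.range j.base from hU' ▸ ⟨y, rfl⟩
    obtain ⟨z, hz⟩ := hj
    refine ((mem_range_gamι_iff j F _).1 ⟨a, rfl⟩) z ?_
    rw [hz]
    exact hy
  choose ψ hψ using himg
  have hadd : ∀ a a', ψ (a + a') = ψ a + ψ a' := fun a a' => gamι_injective j' R (by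
    rw [hψ, map_add, map_add, map_add, hψ, hψ])
  have hbij : Function.Bijective ψ := by
    refine ⟨fun a a' h => gamι_injective j F ?_, fun b => ?_⟩
    · have h1 := ((mem_range_gamι_iff j F _).1 ⟨a, rfl⟩)
      have h2 := ((mem_range_gamι_iff j F _).1 ⟨a', rfl⟩)
      obtain ⟨s, -, hu⟩ := excision_sections f j j' hU' hZ hκ F (F.obj.map (toTop (src f)).op (gamι j F a))
        (fun x hx hxj => by
          rw [sectSupp_map] at hx
          obtain ⟨y, hy⟩ := hxj
          exact h1 y (hy.symm ▸ hx))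
      exact (hu _ ⟨h1, rfl⟩).trans (hu _ ⟨h2, by rw [← hψ, ← hψ, h]⟩).symm
    · obtain ⟨s, ⟨hs, hs1⟩, -⟩ := excision_sections f j j' hU' hZ hκ F (gamι j' R b) (fun x hx hxj => by
        have hx' : x ∈ Set.range j' := hU'.symm ▸ hxj
        obtain ⟨y, rfl⟩ := hx'
        exact (mem_range_gamι_iff j' R _).1 ⟨b, rfl⟩ y ((sectSupp_res f F _ _).2 hx))
      obtain ⟨a, ha⟩ := (mem_range_gamι_iff j F s).2 hs
      exact ⟨a, gamι_injective j' R (by rw [hψ, ha, hs1])⟩
  exact ⟨AddEquiv.toAddCommGrpIso (AddEquiv.mk' (Equiv.ofBijective ψ hbij) hadd), hψ⟩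

include hU' hZ hκ in
theorem nonempty_gammaIso :
    Nonempty (EtDual.gammaSupp j ≅ EtShriek.restrAlong f ⋙ EtDual.gammaSupp j') := by
  choose e he using exists_gamma_equiv f j j' hU' hZ hκ
  refine ⟨NatIso.ofComponents e fun {F G} φ => ?_⟩
  ext a
  refine gamι_injective j' _ ?_
  show gamι j' _ ((e G).hom ((EtDual.gammaSupp j).map φ a)) =
    gamι j' _ ((EtDual.gammaSupp j').map ((EtShriek.restrAlong f).map φ) ((e F).hom a))
  rw [he, gamι_naturality, gamι_naturality, he]
  exact (NatTrans.naturality_apply φ.hom (toTop (src f)).op _).symm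

include hU' hZ hκ in
/-- Étale excision. -/
theorem nonempty_HY_excision (F : EtCoh.Ab X) (r : ℕ) :
    Nonempty ((EtDual.HY j r).obj F ≅ (EtDual.HY j' r).obj ((EtCoh.pull f).obj F)) := by
  obtain ⟨η⟩ := nonempty_gammaIso f j j' hU' hZ hκ
  have := restrAlong_additive' f
  let R := EtShriek.restrAlong f
  let I := injectiveResolution F
  let J : InjectiveResolution (R.obj F) :=
    { cocomplex := (R.mapHomologicalComplex _).obj I.cocomplex
      injective := fun n => Injective.injective_of_adjoint (EtShriek.extZeroAdj f) (I.cocomplex.X n)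
      ι := (HomologicalComplex.singleMapHomologicalComplex _ _ _).inv.app F ≫
        (R.mapHomologicalComplex _).map I.ι }
  exact ⟨I.isoRightDerivedObj (EtDual.gammaSupp j) r ≪≫
    (HomologicalComplex.homologyFunctor _ _ r).mapIso ((NatIso.mapHomologicalComplex η _).app I.cocomplex) ≪≫
    (J.isoRightDerivedObj (EtDual.gammaSupp j') r).symm ≪≫
    ((EtDual.gammaSupp j').rightDerived r).mapIso ((pullRestrIso f).app F).symm⟩

end Groth.Agent.Et18.LocCoh
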