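import Groth.Agent.Et18.LocCoh.Basic
import Groth.Agent.Et18.LocCoh.Mono
import Groth.Agent.Et18.FLC
import Groth.Agent.SiteCmp16.Derived
import Groth.Prelude.Def_EtDepth

/-!
# Depth of finite locally constant sheaves
-/

set_option autoImplicit false
set_option linter.all false
set_option backward.isDefEq.respectTransparency.types false
set_option backward.isDefEq.respectTransparency false
set_option backward.defeqAttrib.useBackward true

universe u

open CategoryTheory CategoryTheory.Limits AlgebraicGeometry Opposite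

namespace Groth.Agent.Et18.LocCoh

variable {X U : Scheme.{u}} (j : U ⟶ X) [IsOpenImmersion j]

theorem depthGE_of_iso {F G : EtCoh.Ab X} (e : F ≅ G) {n : ℕ} (h : EtDepth.DepthGE j F n) :
    EtDepth.DepthGE j G n := fun p hp => (h p hp).of_iso ((EtDual.locCoh j p).mapIso e.symm)

theorem depthGE_of_isZero {F : EtCoh.Ab X} (hF : IsZero F) (n : ℕ) : EtDepth.DepthGE j F n := by
  intro p hp
  have := preservesFiniteLimits_secSupp j
  haveI : Injective F := ⟨fun g _ _ => ⟨0, hF.eq_of_tgt _ _⟩⟩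
  rcases p with _ | q
  · exact (Functor.map_isZero (EtDual.secSupp j) hF).of_iso
      ((Functor.rightDerivedZeroIsoSelf (EtDual.secSupp j)).app F)
  · exact (EtDual.secSupp j).isZero_rightDerived_obj_injective_succ q F

theorem depthGE_extension {S : ShortComplex (EtCoh.Ab X)} (hS : S.ShortExact) {n : ℕ}
    (h₁ : EtDepth.DepthGE j S.X₁ n) (h₃ : EtDepth.DepthGE j S.X₃ n) : EtDepth.DepthGE j S.X₂ n := by
  have := preservesFiniteLimits_secSupp j
  exact fun p hp => SiteCmp16.isZero_rightDerived_X₂ (EtDual.secSupp j) hS p (h₁ p hp) (h₃ p hp)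

/-- The constant sheaves of finite `ℓ`-groups. -/
theorem depthGE_cst (ℓ : ℕ) (hℓ : ℓ.Prime) (n : ℕ) (hX : EtDepth.DepthGE j (EtCoh.const X (ZMod ℓ)) n)
    (A : AddCommGrpCat.{u + 1}) [Finite A] (hA : ∀ a : A, ∃ k : ℕ, ℓ ^ k • a = 0) :
    EtDepth.DepthGE j ((cst X).obj A) n := by
  induction hc : Nat.card A using Nat.strong_induction_on generalizing A with
  | _ c ih =>
    rcases subsingleton_or_nontrivial A with hsub | hnt
    · exact depthGE_of_isZero j (Functor.map_isZero _ (AddCommGrpCat.isZero_of_subsingleton A)) n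
    obtain ⟨a, ha, ha0⟩ : ∃ a : A, ℓ • a = 0 ∧ a ≠ 0 := by
      obtain ⟨b, hb⟩ := exists_ne (0 : A)
      classical
      obtain ⟨k, hk⟩ := hA b
      let m := Nat.find (⟨k, hk⟩ : ∃ k, ℓ ^ k • b = 0)
      have hm : ℓ ^ m • b = 0 := Nat.find_spec (⟨k, hk⟩ : ∃ k, ℓ ^ k • b = 0)
      rcases Nat.exists_eq_succ_of_ne_zero (n := m) (fun h => hb (by rwa [h, pow_zero, one_smul] at hm)) with ⟨i, hi⟩
      refine ⟨ℓ ^ i • b, ?_, Nat.find_min (⟨k, hk⟩ : ∃ k, ℓ ^ k • b = 0) (m := i) (by omega)⟩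
      rw [← mul_smul, ← pow_succ']
      rwa [hi] at hm
    let ψ₀ : ZMod ℓ →+ A := ZMod.lift ℓ ⟨zmultiplesHom A a, by simpa using ha⟩
    have hψ : Function.Injective ψ₀ := by
      refine (ZMod.lift_injective _).2 fun z hz => ?_
      have hord : addOrderOf a = ℓ := haveI := Fact.mk hℓ; addOrderOf_eq_prime ha ha0
      rw [ZMod.intCast_zmod_eq_zero_iff_dvd, ← hord]
      exact addOrderOf_dvd_iff_zsmul_eq_zero.2 hz
    let ψ : AddCommGrpCat.of (ULift.{u + 1} (ZMod ℓ)) ⟶ A :=
      AddCommGrpCat.ofHom (ψ₀.comp AddEquiv.ulift.toAddMonoidHom)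
    let H : AddSubgroup A := ψ.hom.range
    let B : AddCommGrpCat.{u + 1} := AddCommGrpCat.of (A ⧸ H)
    let π : A ⟶ B := AddCommGrpCat.ofHom (QuotientAddGroup.mk' H)
    have hψ' : Function.Injective ψ := fun x y h => AddEquiv.ulift.injective (hψ h)
    have hS : (ShortComplex.mk ψ π (by
        ext x; exact (QuotientAddGroup.eq_zero_iff _).2 ⟨x, rfl⟩)).ShortExact :=
      { exact := (ShortComplex.ab_exact_iff _).2 fun x hx => (QuotientAddGroup.eq_zero_iff _).1 hx
        mono_f := (AddCommGrpCat.mono_iff_injective _).2 hψ'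
        epi_g := (AddCommGrpCat.epi_iff_surjective _).2 (QuotientAddGroup.mk'_surjective H) }
    refine depthGE_extension j (hS.map_of_exact (cst X)) hX ?_
    haveI : Finite B := Finite.of_surjective _ (QuotientAddGroup.mk'_surjective H)
    refine ih (Nat.card B) ?_ B (fun b => ?_) rfl
    · have e : Nat.card A = Nat.card B * Nat.card H := AddSubgroup.card_eq_card_quotient_mul_card_addSubgroup H
      haveI : NeZero ℓ := ⟨hℓ.ne_zero⟩
      have h2 : Nat.card H = ℓ := by
        show Nat.card (Set.range ψ) = ℓ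
        rw [Nat.card_congr (Equiv.ofInjective _ hψ').symm, Nat.card_congr Equiv.ulift, Nat.card_zmod]
      rw [← hc, e, h2]
      exact lt_mul_of_one_lt_right Nat.card_pos hℓ.one_lt
    · obtain ⟨x, rfl⟩ := QuotientAddGroup.mk'_surjective H b
      obtain ⟨k, hk⟩ := hA x
      exact ⟨k, (map_nsmul (QuotientAddGroup.mk' H) _ x).symm.trans ((congrArg _ hk).trans (map_zero _))⟩

/-- Finite locally constant `ℓ`-torsion sheaves. -/
theorem depthGE_flc (ℓ : ℕ) (hℓ : ℓ.Prime) (n : ℕ) (hX : EtDepth.DepthGE j (EtCoh.const X (ZMod ℓ)) n)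
    (F : EtCoh.Ab X) (hF : EtCoh.IsFiniteLocallyConstant F) (ht : EtDepth.IsLTorsion ℓ F) :
    EtDepth.DepthGE j F n := by
  have : EtShriek.JCont j := jCont j
  intro p hp
  refine isZero_of_stalks fun x => ?_
  obtain ⟨W, w, A, hw, hA, hW⟩ := isFLC_iff.1 hF x
  haveI : Finite A := hA
  obtain ⟨v, -⟩ := exists_fiber_point (sepPoint X x) W w (hw.trans (sepPoint_default X x).symm)
  obtain ⟨eA⟩ := nonempty_stalk_iso' hW (sepPoint X x) w (hw.trans (sepPoint_default X x).symm)
  have hAt : ∀ a : A, ∃ k : ℕ, ℓ ^ k • a = 0 := fun a => by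
    obtain ⟨V, z, σ, hσ⟩ := (Scheme.pointSmallEtale (sepPoint X x)).toPresheafFiber_jointly_surjective
      (P := F.obj) (eA.inv a)
    obtain ⟨V', g, ⟨z', hz'⟩, k, hk⟩ := ht V σ (fiberPt z)
    refine ⟨k, ?_⟩
    have h0 : ℓ ^ k • eA.inv a = 0 := by
      rw [← hσ]
      refine (map_nsmul _ _ σ).symm.trans (germ_eq_zero_of_not_mem_sectSupp F _ V _ z fun hs => hs V' g ⟨z', hz'⟩ ?_)
      exact (map_nsmul _ _ σ).trans hk
    apply (ConcreteCategory.bijective_of_isIso eA.inv).1
    exact (map_nsmul eA.inv.hom _ a).trans (h0.trans (map_zero eA.inv.hom).symm)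
  have e : (res W).obj ((cst X).obj A) ≅ (res W).obj F :=
    (pullRestrIso (str W)).symm.app _ ≪≫ (EtCore.pullConstIso (str W)).app A ≪≫ hW.some.symm ≪≫
      (pullRestrIso (str W)).app F
  have hz := isZero_res_locCoh j W e.symm p (depthGE_cst j ℓ hℓ n hX A hAt p hp)
  let l : Spec _ ⟶ W.left := v.left
  have hl : l ≫ str W = sepPoint X x := Over.w v
  rw [← hl]
  exact IsZero.of_iso (Functor.map_isZero (EtCoh.stalk l) hz) ((stalkRestrIso (str W) l).app _).symm

end Groth.Agent.Et18.LocCoh
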