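import Groth.Agent.Et18.LocCoh.TateGen
import Mathlib.RingTheory.Polynomial.Cyclotomic.Roots

/-!
# Roots of unity and Tate twists are étale-locally constant
-/

set_option autoImplicit false
set_option linter.all false
set_option backward.isDefEq.respectTransparency.types false
set_option backward.isDefEq.respectTransparency false

universe u

open CategoryTheory CategoryTheory.Limits AlgebraicGeometry Opposite Polynomial
open Groth.Agent.HenselLib

namespace Groth.Agent.Et18.LocCoh

variable {X : Scheme.{u}} {n : ℕ}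

theorem injective_muι (U : X.Etale) : Function.Injective ((EtCoh.muι X n).hom.app (op U)) := by
  haveI : Mono (EtCoh.muι X n) := inferInstanceAs (Mono (kernel.ι (EtCoh.powMap X n)))
  haveI : Mono ((sheafToPresheaf X.smallEtaleTopology AddCommGrpCat.{u + 1}).map (EtCoh.muι X n)) :=
    Functor.map_mono _ _
  haveI : Mono (((evaluation _ _).obj (op U)).map
      ((sheafToPresheaf X.smallEtaleTopology AddCommGrpCat.{u + 1}).map (EtCoh.muι X n))) :=
    Functor.map_mono _ _
  exact (AddCommGrpCat.mono_iff_injective _).mp this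

theorem sec_zpow {U : X.Etale} (v : Γ(U.left, ⊤)ˣ) (k : ℤ) : Kummer.sec (v ^ k) = k • Kummer.sec v := rfl

theorem map_muι {U V : X.Etale} (g : V ⟶ U) (x : EtCoh.sect (EtCoh.mu X n) U) :
    (EtCoh.muι X n).hom.app (op V) ((EtCoh.mu X n).obj.map g.op x) =
      (EtCoh.Gm X).obj.map g.op ((EtCoh.muι X n).hom.app (op U) x) :=
  ConcreteCategory.congr_hom ((EtCoh.muι X n).hom.naturality g.op) x

theorem muι_torsion {U : X.Etale} (x : EtCoh.sect (EtCoh.mu X n) U) :
    n • (EtCoh.muι X n).hom.app (op U) x = 0 := by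
  rw [← Kummer.powMap_apply]
  exact congrArg (fun t : EtCoh.mu X n ⟶ EtCoh.Gm X => t.hom.app (op U) x) (kernel.condition (EtCoh.powMap X n))

/-- A primitive root of unity generates `μ_n`. -/
theorem gen_mu (hn1 : 1 ≤ n) (hn : IsUnit (n : Γ(X, ⊤))) {W : X.Etale} (ζ : Γ(W.left, ⊤)ˣ)
    (hprim : ∀ x : W.left, IsPrimitiveRoot (W.left.Γevaluation x (ζ : Γ(W.left, ⊤))) n)
    (a : EtCoh.sect (EtCoh.mu X n) W) (ha : (EtCoh.muι X n).hom.app (op W) a = Kummer.sec ζ) :
    Gen n (EtCoh.mu X n) W a := by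
  have hev : ∀ {V : X.Etale} (g : V ⟶ W) (v : V.left),
      IsPrimitiveRoot (V.left.Γevaluation v (g.left.appTop.hom (ζ : Γ(W.left, ⊤)))) n := by
    intro V g v
    rw [show V.left.Γevaluation v (g.left.appTop.hom (ζ : Γ(W.left, ⊤))) =
      g.left.residueFieldMap v (W.left.Γevaluation (g.left v) (ζ : Γ(W.left, ⊤))) from
        (Scheme.Γevaluation_naturality_apply g.left v _).symm]
    exact (hprim (g.left v)).map_of_injective (g.left.residueFieldMap v).hom.injective
  refine ⟨injective_muι W ?_, fun V g w x => ?_, fun V g v k hk => ?_⟩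
  · rw [map_zsmul, natCast_zsmul, map_zero, muι_torsion]
  · obtain ⟨v, hv⟩ := Kummer.sec_surjective ((EtCoh.muι X n).hom.app (op V) w)
    have hvn : v ^ n = 1 := by
      apply Kummer.sec_injective
      rw [Kummer.sec_pow, hv, Kummer.sec_one, muι_torsion]
    let z : Γ(V.left, ⊤)ˣ := Units.map g.left.appTop.hom.toMonoidHom ζ
    have hzn : z ^ n = 1 := by
      apply Kummer.sec_injective
      rw [Kummer.sec_pow, Kummer.sec_one, ← Kummer.map_sec, ← ha, ← map_muι, muι_torsion]
    let gm := (V.left.presheaf.germ ⊤ x trivial).hom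
    have hvb : (V.left.Γevaluation x (v : Γ(V.left, ⊤))) ^ n = 1 := by
      rw [← map_pow, ← Units.val_pow_eq_pow_val, hvn, Units.val_one, map_one]
    have hp := hev g x
    haveI : NeZero n := ⟨by omega⟩
    obtain ⟨i, hi, hiv⟩ := hp.eq_pow_of_pow_eq_one hvb
    let c : Γ(V.left, ⊤)ˣ := z ^ i
    have hcn : c ^ n = 1 := by rw [← pow_mul, mul_comm, pow_mul, hzn, one_pow]
    have hgerm : gm v = gm c := by
      have h1 : (∑ j ∈ Finset.range n, gm v ^ j * gm c ^ (n - 1 - j)) * (gm v - gm c) = 0 := by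
        rw [geom_sum₂_mul, ← map_pow, ← map_pow, ← Units.val_pow_eq_pow_val, ← Units.val_pow_eq_pow_val,
          hvn, hcn, sub_self]
      have h2 : IsUnit (∑ j ∈ Finset.range n, gm v ^ j * gm c ^ (n - 1 - j)) := by
        apply (IsLocalRing.residue_ne_zero_iff_isUnit _).mp
        simp only [map_sum, map_mul, map_pow]
        have hv' : IsLocalRing.residue _ (gm v) = (V.left.Γevaluation x (z : Γ(V.left, ⊤))) ^ i := hiv.symm
        have hc' : IsLocalRing.residue _ (gm c) = (V.left.Γevaluation x (z : Γ(V.left, ⊤))) ^ i := by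
          show V.left.Γevaluation x (c : Γ(V.left, ⊤)) = _
          simp only [c, Units.val_pow_eq_pow_val, map_pow]
        rw [hv', hc', Finset.sum_congr rfl (g := fun _ => ((V.left.Γevaluation x (z : Γ(V.left, ⊤))) ^ i) ^ (n - 1)) (by
          intro j hj
          rw [← pow_add]
          congr 1
          simp at hj
          omega), Finset.sum_const, Finset.card_range, nsmul_eq_mul]
        exact mul_ne_zero (Kummer.natCast_residue_ne_zero x hn)
          (pow_ne_zero _ (pow_ne_zero _ (hp.ne_zero (by omega))))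
      exact sub_eq_zero.mp (h2.mul_right_eq_zero.mp h1)
    obtain ⟨(O : V.left.Opens), hxO, i₁, i₂, hO⟩ :=
      TopCat.Presheaf.germ_eq (X := V.left) V.left.presheaf (U := ⊤) (V := ⊤) x trivial trivial (v : Γ(V.left, ⊤)) (c : Γ(V.left, ⊤)) hgerm
    let h : etalePiece V O ⟶ V := etalePieceHom V O
    refine ⟨etalePiece V O, h, i, ⟨⟨x, hxO⟩, rfl⟩, injective_muι _ ?_⟩
    rw [map_muι, map_zsmul, map_muι, ha, ← hv, Kummer.map_sec, Kummer.map_sec, natCast_zsmul, ← Kummer.sec_pow]
    congr 1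
    ext
    show O.ι.appTop.hom (v : Γ(V.left, ⊤)) = ((Units.map (h ≫ g).left.appTop.hom.toMonoidHom ζ ^ i : Γ((etalePiece V O).left, ⊤)ˣ) : Γ((etalePiece V O).left, ⊤))
    have hOc : O.ι.appTop.hom (v : Γ(V.left, ⊤)) = O.ι.appTop.hom (c : Γ(V.left, ⊤)) := by
      rw [Scheme.Opens.ι_appTop]
      have hle : O.ι ''ᵁ ⊤ ≤ O := by rw [Scheme.Opens.ι_image_top]
      rw [show (homOfLE (le_top : O.ι ''ᵁ ⊤ ≤ ⊤)) = homOfLE hle ≫ i₁ from Subsingleton.elim _ _]
      conv_rhs => rw [show homOfLE hle ≫ i₁ = homOfLE hle ≫ i₂ from Subsingleton.elim _ _]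
      simp only [op_comp, Functor.map_comp, ConcreteCategory.comp_apply]
      exact congrArg _ hO
    rw [hOc]
    simp only [c, Units.val_pow_eq_pow_val, map_pow]
    rfl
  · have h1 := congrArg ((EtCoh.muι X n).hom.app (op V)) hk
    rw [map_zsmul, map_muι, ha, Kummer.map_sec, map_zero, ← sec_zpow, ← Kummer.sec_one] at h1
    have h2 := congrArg (fun w => Units.map (V.left.Γevaluation v).hom.toMonoidHom w) (Kummer.sec_injective h1)
    simp only [map_zpow, map_one] at h2
    refine ((IsPrimitiveRoot.coe_units_iff.mp (?_ : IsPrimitiveRoot (((Units.map (V.left.Γevaluation v).hom.toMonoidHom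
      (Units.map g.left.appTop.hom.toMonoidHom ζ) : (V.left.residueField v)ˣ)) : V.left.residueField v) n)).zpow_eq_one_iff_dvd k).1 h2
    exact hev g v

set_option maxHeartbeats 1000000 in
/-- Near every point there is a primitive root of unity. -/
theorem exists_gen_mu (hn1 : 1 ≤ n) (hn : IsUnit (n : Γ(X, ⊤))) (x : X) :
    ∃ (W : X.Etale) (w : W.left) (a : EtCoh.sect (EtCoh.mu X n) W), W.hom w = x ∧ Gen n (EtCoh.mu X n) W a := by
  obtain ⟨O, hO, hxO, -⟩ := exists_isAffineOpen_mem_and_subset (X := X) (x := x) (U := ⊤) trivial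
  haveI : IsAffine (O : Scheme.{u}) := hO
  let W₀ : Scheme.{u} := O
  let k := AlgebraicClosure (W₀.residueField ⟨x, hxO⟩)
  let q : Spec (CommRingCat.of k) ⟶ W₀ :=
    Spec.map (CommRingCat.ofHom (algebraMap (W₀.residueField ⟨x, hxO⟩) k)) ≫ W₀.fromSpecResidueField ⟨x, hxO⟩
  let ev : Γ(W₀, ⊤) ⟶ CommRingCat.of k := q.appTop ≫ (Scheme.ΓSpecIso (CommRingCat.of k)).hom
  have hnk : (n : k) ≠ 0 := by
    have := (hn.map O.ι.appTop.hom).map ev.hom
    rw [map_natCast, map_natCast] at this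
    exact this.ne_zero
  haveI : NeZero (n : k) := ⟨hnk⟩
  obtain ⟨r, hroot⟩ := IsAlgClosed.exists_root (cyclotomic n k)
    (by rw [degree_cyclotomic]; exact_mod_cast (Nat.totient_pos.2 (by omega)).ne')
  let P : StandardEtalePair Γ(W₀, ⊤) :=
    ⟨cyclotomic n _, cyclotomic.monic _ _, derivative (cyclotomic n _), 1, 0, 1, by simp⟩
  letI : Algebra Γ(W₀, ⊤) k := ev.hom.toAlgebra
  have hP : P.HasMap (S := k) r := by
    refine ⟨?_, isUnit_iff_ne_zero.mpr ?_⟩
    · show aeval r (cyclotomic n Γ(W₀, ⊤)) = 0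
      rw [aeval_def, eval₂_eq_eval_map, map_cyclotomic]
      exact hroot
    · show aeval r (derivative (cyclotomic n Γ(W₀, ⊤))) ≠ 0
      rw [aeval_def, eval₂_eq_eval_map, ← derivative_map, map_cyclotomic]
      exact fun h0 => (separable_cyclotomic n k).aeval_derivative_ne_zero (x := r) (by simpa using hroot) (by simpa using h0)
  let B := CommRingCat.of P.Ring
  let α : Γ(W₀, ⊤) ⟶ B := CommRingCat.ofHom (algebraMap Γ(W₀, ⊤) P.Ring)
  let χ : B ⟶ CommRingCat.of k := CommRingCat.ofHom (P.lift r hP).toRingHom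
  have hχ : α ≫ χ = ev := by ext c; exact (P.lift r hP).commutes c
  haveI : AlgebraicGeometry.Etale (Spec.map α) :=
    (HasRingHomProperty.Spec_iff (P := @AlgebraicGeometry.Etale)).mpr (RingHom.etale_algebraMap.mpr inferInstance)
  let f : Spec B ⟶ W₀ := Spec.map α ≫ W₀.isoSpec.inv
  haveI : AlgebraicGeometry.Etale f := by
    haveI : AlgebraicGeometry.Etale (Spec.map α ≫ W₀.isoSpec.inv) := inferInstance
    assumption
  haveI : AlgebraicGeometry.Etale (f ≫ O.ι) :=
    MorphismProperty.comp_mem @AlgebraicGeometry.Etale f _ inferInstance inferInstance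
  let W : X.Etale := Scheme.Etale.mk (f ≫ O.ι)
  let y : Γ(Spec B, ⊤) := (Scheme.ΓSpecIso B).inv.hom P.X
  have hy : IsRoot (cyclotomic n Γ(Spec B, ⊤)) y := by
    have h1 : aeval P.X (cyclotomic n Γ(W₀, ⊤)) = 0 := P.hasMap_X.1
    rw [aeval_def, eval₂_eq_eval_map, map_cyclotomic] at h1
    have := congrArg (Scheme.ΓSpecIso B).inv.hom h1
    rw [map_zero, ← eval_map_apply, map_cyclotomic] at this
    exact this
  have hyn : y ^ n = 1 := by
    have := eval_dvd (x := y) (cyclotomic.dvd_X_pow_sub_one n Γ(Spec B, ⊤))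
    rw [hy.eq_zero, zero_dvd_iff, eval_sub, eval_pow, eval_X, eval_one, sub_eq_zero] at this
    exact this
  let ζ : Γ(W.left, ⊤)ˣ := Units.ofPowEqOne y n hyn (by omega)
  have hprim : ∀ z : W.left, IsPrimitiveRoot (W.left.Γevaluation z (ζ : Γ(W.left, ⊤))) n := fun z => by
    haveI : NeZero ((n : ℕ) : W.left.residueField z) := ⟨Kummer.natCast_residue_ne_zero z hn⟩
    refine isRoot_cyclotomic_iff.1 ?_
    have := congrArg ((Spec B).Γevaluation z).hom hy.eq_zero
    rw [map_zero, ← eval_map_apply, map_cyclotomic] at this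
    exact this
  obtain ⟨a, ha⟩ : ∃ a : EtCoh.sect (EtCoh.mu X n) W, (EtCoh.muι X n).hom.app (op W) a = Kummer.sec ζ := by
    let E : EtCoh.Ab X ⥤ AddCommGrpCat.{u + 1} := sheafToPresheaf _ _ ⋙ (evaluation _ _).obj (op W)
    let S : ShortComplex (EtCoh.Ab X) := ShortComplex.mk (EtCoh.muι X n) (EtCoh.powMap X n) (kernel.condition _)
    have hS := (ShortComplex.exact_of_f_is_kernel S (kernelIsKernel _))
    haveI : Mono S.f := inferInstanceAs (Mono (kernel.ι (EtCoh.powMap X n)))
    have hE : (S.map E).Exact :=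
      ((S.map E).exact_of_f_is_kernel (KernelFork.mapIsLimit _ (kernelIsKernel (EtCoh.powMap X n)) E))
    refine (ShortComplex.ab_exact_iff _).1 hE (Kummer.sec ζ) ?_
    show (EtCoh.powMap X n).hom.app (op W) (Kummer.sec ζ) = 0
    rw [Kummer.powMap_apply, ← Kummer.sec_pow,
      show ζ ^ n = 1 from Units.pow_ofPowEqOne hyn (by omega), Kummer.sec_one]
  refine ⟨W, Spec.map χ (IsLocalRing.closedPoint k), a, ?_, gen_mu hn1 hn ζ hprim a ha⟩
  have hinv : W₀.isoSpec.inv.appTop = (Scheme.ΓSpecIso Γ(W₀, ⊤)).inv := by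
    have h : W₀.isoSpec.inv.appTop ≫ W₀.isoSpec.hom.appTop = 𝟙 _ := by
      rw [← Scheme.Hom.comp_appTop, Iso.hom_inv_id, Scheme.Hom.id_appTop]
    rw [show W₀.isoSpec.hom = W₀.toSpecΓ from rfl, Scheme.toSpecΓ_appTop] at h
    exact (Iso.comp_hom_eq_id (Scheme.ΓSpecIso Γ(W₀, ⊤))).mp h
  have hq : Spec.map χ ≫ f = q := by
    refine ext_of_isAffine ?_
    rw [Scheme.Hom.comp_appTop, Scheme.Hom.comp_appTop, hinv, ← Scheme.ΓSpecIso_inv_naturality α,
      Category.assoc, ← Scheme.ΓSpecIso_inv_naturality χ, ← Category.assoc, hχ]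
    simp [ev]
  show (Spec.map χ ≫ f ≫ O.ι) _ = x
  rw [← Category.assoc, hq]
  simp only [q, Scheme.Hom.comp_apply]
  erw [Scheme.fromSpecResidueField_apply]
  rfl

/-- Tate twists are generated near every point. -/
theorem exists_gen_tate (hn1 : 1 ≤ n) (hn : IsUnit (n : Γ(X, ⊤))) (x : X) (c : ℕ) :
    ∃ (W : X.Etale) (w : W.left) (a : EtCoh.sect (EtDual.tate X n c) W),
      W.hom w = x ∧ Gen n (EtDual.tate X n c) W a := by
  obtain ⟨W, w, b, hw, hb⟩ := exists_gen_mu hn1 hn x
  suffices ∃ a, Gen n (EtDual.tate X n c) W a from ⟨W, w, this.choose, hw, this.choose_spec⟩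
  induction c with
  | zero => exact ⟨one n W, gen_one n W⟩
  | succ c ih =>
    obtain ⟨a, ha⟩ := ih
    exact ⟨tens a b, ha.tensor hb⟩

/-- Vanishing of local cohomology passes from the constant sheaf to Tate twists. -/
theorem isZero_locCoh_tate {U : Scheme.{u}} (j : U ⟶ X) [IsOpenImmersion j] [EtShriek.JCont j]
    (hn : IsUnit (n : Γ(X, ⊤))) (c p : ℕ)
    (h : IsZero ((EtDual.locCoh j p).obj (EtCoh.const X (ZMod n)))) :
    IsZero ((EtDual.locCoh j p).obj (EtDual.tate X n c)) := by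
  refine isZero_of_stalks fun x => ?_
  have hn1 : 1 ≤ n := by
    rcases Nat.eq_zero_or_pos n with rfl | h0
    · have := hn.map (X.Γevaluation x).hom
      rw [map_natCast, Nat.cast_zero] at this
      exact absurd this not_isUnit_zero
    · exact h0
  obtain ⟨W, w, a, hw, ha⟩ := exists_gen_tate hn1 hn x c
  obtain ⟨e⟩ := ha.nonempty_iso
  obtain ⟨e'⟩ := (gen_one n W).nonempty_iso
  have hz := isZero_res_locCoh j W (e ≪≫ e'.symm) p h
  obtain ⟨v, hv⟩ := exists_fiber_point (sepPoint X x) W w (hw.trans (sepPoint_default X x).symm)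
  let l : Spec _ ⟶ W.left := v.left
  have hl : l ≫ str W = sepPoint X x := Over.w v
  rw [← hl]
  exact IsZero.of_iso (Functor.map_isZero (EtCoh.stalk l) hz) ((stalkRestrIso (str W) l).app _).symm

end Groth.Agent.Et18.LocCoh
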