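import Mathlib.Algebra.Homology.ShortComplex.PreservesHomology
import Mathlib.Algebra.Homology.ShortComplex.HomologicalComplex
import Mathlib.Algebra.Homology.HomologicalComplexBiprod
import Mathlib.Algebra.Homology.ShortComplex.Exact
import Mathlib.Algebra.Homology.HomologicalComplexAbelian
import Mathlib.CategoryTheory.Limits.Preserves.Finite

/-!
# Complexes of injectives exact below a degree
-/

set_option autoImplicit false
set_option backward.isDefEq.respectTransparency false

universe v v' w w'

open CategoryTheory CategoryTheory.Limits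

namespace Groth.Agent.Et18.LocCoh

variable {C : Type w} [Category.{v} C] [Abelian C] {D : Type w'} [Category.{v'} D] [Abelian D]

/-- The differentials of a complex of injectives which is exact below `m` are regular up to degree `m`. -/
theorem exists_regular (K : CochainComplex C ℕ) [∀ i, Injective (K.X i)] (m : ℕ)
    (h : ∀ i < m, K.ExactAt i) :
    ∀ i < m, ∃ t : K.X (i + 1) ⟶ K.X i, K.d i (i + 1) ≫ t ≫ K.d i (i + 1) = K.d i (i + 1) := by
  intro i
  induction i with
  | zero =>
    intro hi
    have hx := h 0 hi
    rw [K.exactAt_iff' 0 0 1 (by simp) (by simp)] at hx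
    exact ⟨hx.descToInjective (𝟙 (K.X 0)) ((Category.comp_id _).trans (K.shape _ _ (by simp))), by
      refine (Category.assoc _ _ _).symm.trans ?_
      exact (congrArg (· ≫ K.d 0 1) (hx.comp_descToInjective (𝟙 (K.X 0)) _)).trans (Category.id_comp _)⟩
  | succ i ih =>
    intro hi
    obtain ⟨t, ht⟩ := ih (by omega)
    have hx := h (i + 1) hi
    rw [K.exactAt_iff' i (i + 1) (i + 1 + 1) (by simp) (by simp)] at hx
    let e : K.X (i + 1) ⟶ K.X (i + 1) := 𝟙 _ - t ≫ K.d i (i + 1)
    have he : K.d i (i + 1) ≫ e = 0 := by simp [e, Preadditive.comp_sub, ht]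
    refine ⟨hx.descToInjective e he, ?_⟩
    refine (Category.assoc _ _ _).symm.trans ?_
    refine (congrArg (· ≫ K.d (i + 1) (i + 1 + 1)) (hx.comp_descToInjective e he)).trans ?_
    show e ≫ K.d (i + 1) (i + 1 + 1) = _
    simp [e]

/-- An additive functor preserves cokernels of regular morphisms. -/
theorem preservesCokernel_of_regular (G : C ⥤ D) [G.Additive] {A B : C} (f : A ⟶ B) (t : B ⟶ A)
    (ht : f ≫ t ≫ f = f) : PreservesColimit (parallelPair f 0) G := by
  let e : B ⟶ B := 𝟙 B - t ≫ f
  have he : f ≫ e = 0 := by simp [e, Preadditive.comp_sub, ht]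
  let σ : cokernel f ⟶ B := cokernel.desc f e he
  have hπσ : cokernel.π f ≫ σ = e := cokernel.π_desc f e he
  have hσ : σ ≫ cokernel.π f = 𝟙 _ := by
    rw [← cancel_epi (cokernel.π f), ← Category.assoc, hπσ]
    simp [e, Preadditive.sub_comp]
  refine preservesColimit_of_preserves_colimit_cocone (cokernelIsCokernel f)
    ((isColimitMapCoconeCoforkEquiv' G (cokernel.condition f)).symm
      (CokernelCofork.IsColimit.ofπ _ _ (fun g' _ => G.map σ ≫ g') (fun g' hg' => ?_)
        (fun g' _ m hm => ?_)))
  · rw [← Category.assoc, ← G.map_comp, hπσ]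
    simp only [e, G.map_sub, G.map_id, G.map_comp, Preadditive.sub_comp, Category.id_comp, Category.assoc, hg',
      Limits.comp_zero, sub_zero]
  · rw [← hm, ← Category.assoc, ← G.map_comp, hσ, G.map_id, Category.id_comp]

/-- An additive functor preserving kernels commutes with homology in regular degrees. -/
theorem preservesLeftHomologyOf_of_regular (G : C ⥤ D) [G.Additive] [PreservesFiniteLimits G]
    (S : ShortComplex C) (t : S.X₂ ⟶ S.X₁) (ht : S.f ≫ t ≫ S.f = S.f) : G.PreservesLeftHomologyOf S := by
  refine ⟨fun h => ⟨inferInstance, ?_⟩⟩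
  refine preservesCokernel_of_regular G h.f' (h.i ≫ t) ?_
  rw [← cancel_mono h.i]
  simp [ht]

/-- For a complex of injectives exact below `m`, an additive left exact functor commutes with homology in
degrees at most `m`. -/
theorem nonempty_homology_map_iso (G : C ⥤ D) [G.Additive] [PreservesFiniteLimits G] (K : CochainComplex C ℕ)
    [∀ i, Injective (K.X i)] (m : ℕ) (h : ∀ i < m, K.ExactAt i) (p : ℕ) (hp : p ≤ m) :
    Nonempty (((G.mapHomologicalComplex _).obj K).homology p ≅ G.obj (K.homology p)) := by
  have : G.PreservesLeftHomologyOf (K.sc p) := by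
    cases p with
    | zero =>
      refine preservesLeftHomologyOf_of_regular G _ 0 ?_
      have h0 : (K.sc 0).f = 0 := K.shape _ _ (by simp)
      rw [h0, zero_comp]
    | succ p =>
      have this : ∀ a, a + 1 = p + 1 → ∃ t, K.d a (p + 1) ≫ t ≫ K.d a (p + 1) = K.d a (p + 1) := fun a ha => by
        obtain rfl : a = p := by omega
        exact exists_regular K m h a (by omega)
      have hprev : ((ComplexShape.up ℕ).prev (p + 1)) + 1 = p + 1 := by simp
      obtain ⟨t, ht⟩ := this _ hprev
      exact preservesLeftHomologyOf_of_regular G _ t ht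
  exact ⟨(K.sc p).mapHomologyIso G⟩

end Groth.Agent.Et18.LocCoh
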