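import Groth.Agent.Et18.LocCoh.Basic
import Groth.Agent.Et18.ConstNhd
import Groth.Agent.HenselLib.KummerSheaf
import Mathlib.Data.ZMod.Basic

/-!
# Tate twists are locally generated by one section
-/

set_option autoImplicit false
set_option linter.all false
set_option backward.isDefEq.respectTransparency.types false
set_option backward.isDefEq.respectTransparency false

universe u

open CategoryTheory CategoryTheory.Limits AlgebraicGeometry Opposite
open scoped TensorProduct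

namespace Groth.Agent.Et18.LocCoh

variable {X : Scheme.{u}} {n : ℕ} {A : EtCoh.Ab X} {W : X.Etale}

/-- `a` generates a copy of `ℤ/n` over `W`. -/
structure Gen (n : ℕ) (A : EtCoh.Ab X) (W : X.Etale) (a : EtCoh.sect A W) : Prop where
  torsion : (n : ℤ) • a = 0
  span : ∀ (V : X.Etale) (g : V ⟶ W) (x : EtCoh.sect A V) (v : V.left), ∃ (V' : X.Etale) (h : V' ⟶ V) (k : ℤ),
    v ∈ Set.range h.left ∧ A.obj.map h.op x = k • A.obj.map (h ≫ g).op a
  free : ∀ (V : X.Etale) (g : V ⟶ W) (_ : V.left) (k : ℤ), k • A.obj.map g.op a = 0 → (n : ℤ) ∣ k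

theorem map_map {V₁ V₂ V₃ : X.Etale} (f : V₁ ⟶ V₂) (g : V₂ ⟶ V₃) (x : EtCoh.sect A V₃) :
    A.obj.map f.op (A.obj.map g.op x) = A.obj.map (f ≫ g).op x :=
  (ConcreteCategory.congr_hom (A.obj.map_comp g.op f.op) x).symm

/-- The fibre product of two étale schemes over a third. -/
noncomputable def pairEt {P Q R : X.Etale} (α : P ⟶ R) (β : Q ⟶ R) : X.Etale :=
  haveI := etale_map_left β
  haveI : Etale P.hom := P.prop
  Scheme.Etale.mk (pullback.fst α.left β.left ≫ P.hom)

/-- The first projection. -/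
noncomputable def pairL {P Q R : X.Etale} (α : P ⟶ R) (β : Q ⟶ R) : pairEt α β ⟶ P :=
  MorphismProperty.Over.homMk (pullback.fst α.left β.left) rfl

/-- The second projection. -/
noncomputable def pairR {P Q R : X.Etale} (α : P ⟶ R) (β : Q ⟶ R) : pairEt α β ⟶ Q :=
  MorphismProperty.Over.homMk (pullback.snd α.left β.left) (by
    change pullback.snd α.left β.left ≫ Q.hom = pullback.fst α.left β.left ≫ P.hom
    rw [← show α.left ≫ R.hom = P.hom from Over.w α.hom, ← show β.left ≫ R.hom = Q.hom from Over.w β.hom,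
      ← Category.assoc, ← Category.assoc, pullback.condition])

variable {a : EtCoh.sect A W}

theorem Gen.restrict (h : Gen n A W a) {V : X.Etale} (g : V ⟶ W) : Gen n A V (A.obj.map g.op a) where
  torsion := by rw [← map_zsmul, h.torsion, map_zero]
  span V' g' x v := by
    obtain ⟨V'', h', k, hv, e⟩ := h.span V' (g' ≫ g) x v
    exact ⟨V'', h', k, hv, by rw [e, map_map, Category.assoc]⟩
  free V' g' v k hk := h.free V' (g' ≫ g) v k (by rwa [map_map] at hk)

/-- The stalk at a point of `W` is `ℤ/n`, generated by the germ. -/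
theorem Gen.bijective_germ (h : Gen n A W a) {Ω : Type u} [Field Ω] [IsSepClosed Ω]
    (ξ : Spec (CommRingCat.of Ω) ⟶ X) (w : (Scheme.pointSmallEtale ξ).fiber.obj W) :
    ∃ χ : ZMod n →+ ToType ((EtCoh.stalk ξ).obj A), Function.Bijective χ ∧
      ∀ k : ℤ, χ k = k • (Scheme.pointSmallEtale ξ).toPresheafFiber W w A.obj a := by
  let Φ := Scheme.pointSmallEtale ξ
  let α : ToType ((EtCoh.stalk ξ).obj A) := Φ.toPresheafFiber W w A.obj a
  have hα : (zmultiplesHom _ α) (n : ℤ) = 0 := by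
    change (n : ℤ) • α = 0
    exact (map_zsmul _ _ _).symm.trans ((congrArg _ h.torsion).trans (map_zero _))
  let χ := ZMod.lift n ⟨zmultiplesHom _ α, hα⟩
  have hχ : ∀ k : ℤ, χ k = k • α := fun k => ZMod.lift_coe _ _ k
  refine ⟨χ, ⟨?_, fun t => ?_⟩, hχ⟩
  · rw [injective_iff_map_eq_zero]
    intro k hk
    obtain ⟨k, rfl⟩ := ZMod.intCast_surjective k
    rw [hχ] at hk
    have h0 := not_mem_sectSupp_of_germ_eq_zero A ξ W (k • a) w ((map_zsmul _ _ _).trans hk)
    simp only [EtShriek.sectSupp, Set.mem_setOf_eq, not_forall, not_not] at h0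
    obtain ⟨V, g, ⟨z, -⟩, hV⟩ := h0
    rw [map_zsmul] at hV
    exact (ZMod.intCast_zmod_eq_zero_iff_dvd k n).2 (h.free V g z k hV)
  · obtain ⟨V₀, v₀, x, rfl⟩ := Φ.toPresheafFiber_jointly_surjective (P := A.obj) t
    obtain ⟨V, v, g, hg⟩ := exists_common_nhd (fun b : Bool => cond b V₀ W)
      (fun b => match b with | true => v₀ | false => w)
    let g₀ : V ⟶ V₀ := g true
    let g₁ : V ⟶ W := g false
    obtain ⟨V', h', k, hv, e⟩ := h.span V g₁ (A.obj.map g₀.op x) (fiberPt v)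
    refine ⟨(k : ZMod n), ?_⟩
    have hz : Φ.toPresheafFiber V v A.obj (A.obj.map g₀.op x - k • A.obj.map g₁.op a) = 0 := by
      refine germ_eq_zero_of_not_mem_sectSupp A ξ V _ v fun hm => hm V' h' hv ?_
      rw [map_sub, map_zsmul, e, map_map, sub_self]
    rw [map_sub, map_zsmul, sub_eq_zero] at hz
    have e₀ : Φ.toPresheafFiber V v A.obj (A.obj.map g₀.op x) = Φ.toPresheafFiber V₀ v₀ A.obj x :=
      (Φ.toPresheafFiber_w_apply g₀ v A.obj x).trans
        (congrArg (fun q => Φ.toPresheafFiber V₀ q A.obj x) (hg true))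
    have e₁ : Φ.toPresheafFiber V v A.obj (A.obj.map g₁.op a) = α :=
      (Φ.toPresheafFiber_w_apply g₁ v A.obj a).trans (congrArg (fun q => Φ.toPresheafFiber W q A.obj a) (hg false))
    rw [hχ, ← e₀, hz, ← e₁]

/-- A coordinate on sections near a point. -/
theorem Gen.exists_coord (h : Gen n A W a) (V : X.Etale) (g : V ⟶ W) (v : V.left) :
    ∃ χ : EtCoh.sect A V →+ ZMod n, χ (A.obj.map g.op a) = 1 := by
  let ξ := sepPoint X (V.hom v)
  obtain ⟨y, -⟩ := exists_fiber_point ξ V v (sepPoint_default X _).symm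
  obtain ⟨χ, hbij, hχ⟩ := h.bijective_germ ξ ((Scheme.pointSmallEtale ξ).fiber.map g y)
  let e := AddEquiv.ofBijective χ hbij
  refine ⟨e.symm.toAddMonoidHom.comp ((Scheme.pointSmallEtale ξ).toPresheafFiber V y A.obj).hom, ?_⟩
  change e.symm ((Scheme.pointSmallEtale ξ).toPresheafFiber V y A.obj (A.obj.map g.op a)) = 1
  rw [AddEquiv.symm_apply_eq]
  refine ((Scheme.pointSmallEtale ξ).toPresheafFiber_w_apply g y A.obj a).trans ?_
  have := hχ 1
  rw [Int.cast_one, one_zsmul] at this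
  exact this.symm

section Tensor

variable {B : EtCoh.Ab X} {b : EtCoh.sect B W}

/-- The class of a pure tensor. -/
noncomputable def tens (a : EtCoh.sect A W) (b : EtCoh.sect B W) : EtCoh.sect (EtDual.tensorAb A B) W :=
  (toSheafify X.smallEtaleTopology (EtDual.tensorPre A B)).app (op W) (a ⊗ₜ[ℤ] b)

theorem map_tens {V : X.Etale} (g : V ⟶ W) (a : EtCoh.sect A W) (b : EtCoh.sect B W) :
    (EtDual.tensorAb A B).obj.map g.op (tens a b) = tens (A.obj.map g.op a) (B.obj.map g.op b) :=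
  (ConcreteCategory.congr_hom ((toSheafify X.smallEtaleTopology (EtDual.tensorPre A B)).naturality g.op) _).symm

theorem Gen.tensor_span_pre (hA : Gen n A W a) (hB : Gen n B W b) (V : X.Etale) (z : A.obj.obj (op V) ⊗[ℤ] B.obj.obj (op V)) :
    ∀ (g : V ⟶ W) (v : V.left), ∃ (V' : X.Etale) (h : V' ⟶ V) (k : ℤ), v ∈ Set.range h.left ∧
      (EtDual.tensorPre A B).map h.op z = k • ((A.obj.map (h ≫ g).op a) ⊗ₜ[ℤ] (B.obj.map (h ≫ g).op b)) := by
  induction z using TensorProduct.induction_on with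
  | zero => exact fun g v => ⟨V, 𝟙 V, 0, ⟨v, rfl⟩, (map_zero _).trans (zero_zsmul _).symm⟩
  | tmul x y =>
    intro g v
    obtain ⟨V₁, h₁, k, ⟨v₁, hv₁⟩, e₁⟩ := hA.span V g x v
    obtain ⟨V₂, h₂, l, ⟨v₂, hv₂⟩, e₂⟩ := hB.span V₁ (h₁ ≫ g) (B.obj.map h₁.op y) v₁
    refine ⟨V₂, h₂ ≫ h₁, k * l, ⟨v₂, (congrArg h₁.left hv₂).trans hv₁⟩, ?_⟩
    change (A.obj.map (h₂ ≫ h₁).op x) ⊗ₜ[ℤ] (B.obj.map (h₂ ≫ h₁).op y) = _
    rw [← map_map, ← map_map (A := B), e₁, map_zsmul, map_map, e₂, Category.assoc, TensorProduct.smul_tmul',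
      ← TensorProduct.smul_tmul, ← mul_smul, mul_comm]
  | add p q hp hq =>
    intro g v
    obtain ⟨V₁, h₁, k, ⟨v₁, hv₁⟩, e₁⟩ := hp g v
    -- refine to handle the second summand
    have hq' : ∃ (V₂ : X.Etale) (h₂ : V₂ ⟶ V₁) (l : ℤ), v₁ ∈ Set.range h₂.left ∧
        (EtDual.tensorPre A B).map h₂.op ((EtDual.tensorPre A B).map h₁.op q) =
          l • ((A.obj.map ((h₂ ≫ h₁) ≫ g).op a) ⊗ₜ[ℤ] (B.obj.map ((h₂ ≫ h₁) ≫ g).op b)) := by
      obtain ⟨V', h', l, ⟨v', hv'⟩, e'⟩ := hq g v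
      obtain ⟨c, hc₁, hc₂⟩ := Scheme.Pullback.exists_preimage_pullback (f := h₁.left) (g := h'.left) v₁ v'
        (hv₁.trans hv'.symm)
      refine ⟨pairEt h₁ h', pairL h₁ h', l, ⟨c, hc₁⟩, ?_⟩
      have e : pairL h₁ h' ≫ h₁ = pairR h₁ h' ≫ h' := etaleHom_ext pullback.condition
      refine (ConcreteCategory.congr_hom ((EtDual.tensorPre A B).map_comp h₁.op (pairL h₁ h').op) q).symm.trans ?_
      rw [← op_comp, e, op_comp]
      refine (ConcreteCategory.congr_hom ((EtDual.tensorPre A B).map_comp h'.op (pairR h₁ h').op) q).trans ?_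
      refine ((congrArg ((EtDual.tensorPre A B).map (pairR h₁ h').op) e').trans (map_zsmul _ _ _)).trans ?_
      refine congrArg (l • ·) ?_
      change (A.obj.map _ _) ⊗ₜ[ℤ] (B.obj.map _ _) = _
      rw [map_map, map_map, ← Category.assoc]
    obtain ⟨V₂, h₂, l, ⟨v₂, hv₂⟩, e₂⟩ := hq'
    refine ⟨V₂, h₂ ≫ h₁, k + l, ⟨v₂, (congrArg h₁.left hv₂).trans hv₁⟩, ?_⟩
    refine (ConcreteCategory.congr_hom ((EtDual.tensorPre A B).map_comp h₁.op h₂.op) (p + q)).trans ?_
    refine (congrArg ((EtDual.tensorPre A B).map h₂.op) (map_add _ p q)).trans ((map_add _ _ _).trans ?_)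
    refine (congrArg₂ (· + ·) ((congrArg ((EtDual.tensorPre A B).map h₂.op) e₁).trans (map_zsmul _ _ _)) e₂).trans ?_
    refine Eq.trans ?_ (add_zsmul _ k l).symm
    refine congrArg₂ (· + ·) (congrArg (k • ·) ?_) rfl
    change (A.obj.map _ _) ⊗ₜ[ℤ] (B.obj.map _ _) = _
    rw [map_map, map_map, Category.assoc]

theorem Gen.tensor (hA : Gen n A W a) (hB : Gen n B W b) : Gen n (EtDual.tensorAb A B) W (tens a b) where
  torsion := by
    rw [tens]
    refine (map_zsmul _ _ _).symm.trans ((congrArg _ ?_).trans (map_zero _))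
    rw [TensorProduct.smul_tmul', hA.torsion, TensorProduct.zero_tmul]
  span V g x v := by
    let η := toSheafify X.smallEtaleTopology (EtDual.tensorPre A B)
    obtain ⟨V₁, h₁, ⟨z, hz⟩, v₁, hv₁⟩ :=
      exists_mem_of_covering (Presheaf.imageSieve_mem X.smallEtaleTopology η x) v
    obtain ⟨V₂, h₂, k, ⟨v₂, hv₂⟩, e₂⟩ := hA.tensor_span_pre hB V₁ z (h₁ ≫ g) v₁
    refine ⟨V₂, h₂ ≫ h₁, k, ⟨v₂, (congrArg h₁.left hv₂).trans hv₁⟩, ?_⟩
    refine (map_map (A := EtDual.tensorAb A B) h₂ h₁ x).symm.trans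
      ((congrArg ((EtDual.tensorAb A B).obj.map h₂.op) hz.symm).trans ?_)
    rw [map_tens, Category.assoc]
    refine (ConcreteCategory.congr_hom (η.naturality h₂.op) z).symm.trans ?_
    exact (congrArg (η.app (op V₂)) e₂).trans (map_zsmul _ _ _)
  free V g v k hk := by
    let η := toSheafify X.smallEtaleTopology (EtDual.tensorPre A B)
    rw [map_tens] at hk
    have h0 : η.app (op V) (k • ((A.obj.map g.op a) ⊗ₜ[ℤ] (B.obj.map g.op b))) = η.app (op V) 0 :=
      (map_zsmul _ _ _).trans (hk.trans (map_zero _).symm)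
    obtain ⟨V₁, h₁, hh, v₁, -⟩ :=
      exists_mem_of_covering (Presheaf.equalizerSieve_mem X.smallEtaleTopology η _ _ h0) v
    obtain ⟨χA, hχA⟩ := hA.exists_coord V₁ (h₁ ≫ g) v₁
    obtain ⟨χB, hχB⟩ := hB.exists_coord V₁ (h₁ ≫ g) v₁
    let Φ : A.obj.obj (op V₁) ⊗[ℤ] B.obj.obj (op V₁) →ₗ[ℤ] ZMod n :=
      TensorProduct.lift (LinearMap.mk₂ ℤ (fun x y => χA x * χB y) (fun x x' y => by simp [add_mul])
        (fun c x y => by simp [mul_assoc]) (fun x y y' => by simp [mul_add])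
        (fun c x y => by simp [mul_left_comm]))
    have h1 := congrArg Φ hh
    have h2 : (EtDual.tensorPre A B).map h₁.op (k • ((A.obj.map g.op a) ⊗ₜ[ℤ] (B.obj.map g.op b))) =
        k • ((A.obj.map (h₁ ≫ g).op a) ⊗ₜ[ℤ] (B.obj.map (h₁ ≫ g).op b)) := by
      refine (map_zsmul _ _ _).trans (congrArg (k • ·) ?_)
      change (A.obj.map _ _) ⊗ₜ[ℤ] (B.obj.map _ _) = _
      rw [map_map, map_map]
    change Φ ((EtDual.tensorPre A B).map h₁.op _) = Φ ((EtDual.tensorPre A B).map h₁.op 0) at h1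
    rw [h2, map_zero, map_zero, map_zsmul] at h1
    simp only [Φ, TensorProduct.lift.tmul, LinearMap.mk₂_apply, hχA, hχB, mul_one, zsmul_one] at h1
    exact (ZMod.intCast_zmod_eq_zero_iff_dvd k n).1 h1

end Tensor

/-- The constant section `1`. -/
noncomputable def one (n : ℕ) (W : X.Etale) : EtCoh.sect (EtCoh.const X (ZMod n)) W :=
  cstSec (AddCommGrpCat.of (ULift.{u + 1} (ZMod n))) W (ULift.up 1)

theorem gen_one (n : ℕ) (W : X.Etale) : Gen n (EtCoh.const X (ZMod n)) W (one n W) := by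
  let M := AddCommGrpCat.of (ULift.{u + 1} (ZMod n))
  let η := toSheafify X.smallEtaleTopology ((Functor.const X.Etaleᵒᵖ).obj M)
  have hres : ∀ {V V' : X.Etale} (g : V' ⟶ V) (m : M),
      (EtCoh.const X (ZMod n)).obj.map g.op (cstSec M V m) = cstSec M V' m := fun g m =>
    ConcreteCategory.congr_hom (cstSec_res M g) m
  refine ⟨?_, fun V g x v => ?_, fun V g v k hk => ?_⟩
  · refine (map_zsmul _ _ _).symm.trans ((congrArg _ ?_).trans (map_zero _))
    ext
    simp
  · obtain ⟨V₁, h₁, ⟨m, hm⟩, v₁, hv₁⟩ :=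
      exists_mem_of_covering (Presheaf.imageSieve_mem X.smallEtaleTopology η x) v
    let m' : ULift.{u + 1} (ZMod n) := m
    obtain ⟨k, hk⟩ := ZMod.intCast_surjective m'.down
    refine ⟨V₁, h₁, k, ⟨v₁, hv₁⟩, hm.symm.trans ?_⟩
    rw [one, hres]
    refine Eq.trans ?_ (map_zsmul _ _ _)
    refine congrArg (cstSec M V₁) ?_
    refine ULift.ext _ _ ?_
    change m'.down = k • (1 : ZMod n)
    rw [zsmul_one, hk]
  · rw [one, hres, ← map_zsmul] at hk
    have h0 : η.app (op V) (k • (ULift.up 1 : ULift.{u + 1} (ZMod n))) = η.app (op V) 0 := hk.trans (map_zero _).symm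
    obtain ⟨V₁, h₁, hh, v₁, -⟩ :=
      exists_mem_of_covering (Presheaf.equalizerSieve_mem X.smallEtaleTopology η _ _ h0) v
    have h1 := congrArg ULift.down (show k • (ULift.up 1 : ULift.{u + 1} (ZMod n)) = 0 from hh)
    simpa [ZMod.intCast_zmod_eq_zero_iff_dvd] using h1

set_option maxHeartbeats 1000000 in
/-- A sheaf generated by a global section is constant. -/
theorem Gen.nonempty_iso_top {a : EtCoh.sect A (EtCoh.top X)} (ha : Gen n A (EtCoh.top X) a) :
    Nonempty (A ≅ EtCoh.const X (ZMod n)) := by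
  let M := AddCommGrpCat.of (ULift.{u + 1} (ZMod n))
  let φ₀ : ZMod n →+ EtCoh.sect A (EtCoh.top X) :=
    ZMod.lift n ⟨zmultiplesHom _ a, ha.torsion⟩
  let φ : M ⟶ A.obj.obj (op (EtCoh.top X)) :=
    AddCommGrpCat.ofHom (φ₀.comp AddEquiv.ulift.toAddMonoidHom)
  let adj := constantSheafAdj X.smallEtaleTopology AddCommGrpCat.{u + 1} (EtCore.topIsTerminal X)
  let c : EtCoh.const X (ZMod n) ⟶ A := (adj.homEquiv _ _).symm φ
  have hc : cstSec M (EtCoh.top X) ≫ c.hom.app (op (EtCoh.top X)) = φ := by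
    rw [← constantSheafAdj_unit_top]
    exact ((adj.homEquiv_unit _ _ c).symm.trans ((adj.homEquiv _ _).apply_symm_apply φ))
  suffices IsIso c from ⟨(asIso c).symm⟩
  refine isIso_of_stalks c fun x => ?_
  let η := sepPoint X x
  obtain ⟨χ, hbij, hχ⟩ := ha.bijective_germ η (topPt η)
  refine (ConcreteCategory.isIso_iff_bijective _).2 ?_
  have hsq : ∀ m : M, (EtCoh.stalk η).map c (cstGerm η M m) = χ (m : ULift.{u + 1} (ZMod n)).down := fun m => by
    obtain ⟨k, hk⟩ := ZMod.intCast_surjective (m : ULift.{u + 1} (ZMod n)).down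
    rw [← hk, hχ]
    refine ((Scheme.pointSmallEtale η).toPresheafFiber_naturality_apply c.hom (EtCoh.top X) (topPt η) _).trans ?_
    refine (congrArg _ (ConcreteCategory.congr_hom hc m)).trans ?_
    refine Eq.trans ?_ (map_zsmul _ _ _)
    refine congrArg _ ?_
    change φ₀ (m : ULift.{u + 1} (ZMod n)).down = _
    rw [← hk]
    exact ZMod.lift_coe _ _ k
  refine ((Function.Bijective.of_comp_iff _ (cstGerm_bijective η M)).1 ?_)
  rw [show (fun t => (EtCoh.stalk η).map c t) ∘ cstGerm η M = fun m => χ (m : ULift.{u + 1} (ZMod n)).down from funext hsq]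
  exact hbij.comp AddEquiv.ulift.bijective


set_option maxHeartbeats 1000000 in
/-- A generated sheaf is constant over `W`. -/
theorem Gen.nonempty_iso (h : Gen n A W a) :
    Nonempty ((res W).obj A ≅ EtCoh.const W.left (ZMod n)) := by
  let T := EtCoh.top W.left
  let gOf : ∀ V : W.left.Etale, (EtShriek.compEtale (str W)).obj V ⟶ W := fun V =>
    MorphismProperty.Over.homMk V.hom rfl
  let a' : EtCoh.sect ((res W).obj A) T := A.obj.map (gOf T).op a
  have hmap : ∀ {V : W.left.Etale} (g : V ⟶ T),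
      ((res W).obj A).obj.map g.op a' = A.obj.map (gOf V).op a := fun {V} g =>
    (map_map (A := A) ((EtShriek.compEtale (str W)).map g) (gOf T) a).trans (congrArg (fun q : (EtShriek.compEtale (str W)).obj V ⟶ W => A.obj.map q.op a) (etaleHom_ext (Over.w g.hom)))
  have h' : Gen n ((res W).obj A) T a' := by
    refine ⟨(map_zsmul _ _ _).symm.trans ((congrArg _ h.torsion).trans (map_zero _)), fun V g x v => ?_,
      fun V g v k hk => h.free _ (gOf V) v k (by rwa [hmap] at hk)⟩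
    obtain ⟨V', h₁, k, hv, e⟩ := h.span _ (gOf V) x v
    have := etale_map_left h₁
    have : Etale (h₁.left ≫ V.hom) := MorphismProperty.comp_mem @Etale _ _ inferInstance V.prop
    let V'' : W.left.Etale := Scheme.Etale.mk (h₁.left ≫ V.hom)
    let h₂ : V'' ⟶ V := MorphismProperty.Over.homMk h₁.left rfl
    let ι : (EtShriek.compEtale (str W)).obj V'' ⟶ V' := MorphismProperty.Over.homMk (𝟙 V'.left) (by
      change 𝟙 V'.left ≫ V'.hom = (h₁.left ≫ V.hom) ≫ str W
      rw [Category.id_comp, Category.assoc]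
      exact (Over.w h₁.hom).symm)
    refine ⟨V'', h₂, k, hv, ?_⟩
    rw [hmap]
    change A.obj.map ((EtShriek.compEtale (str W)).map h₂).op x = k • A.obj.map (gOf V'').op a
    rw [show (EtShriek.compEtale (str W)).map h₂ = ι ≫ h₁ from etaleHom_ext (Category.id_comp _).symm,
      ← map_map, e, map_zsmul, map_map]
    refine congrArg (fun q : (EtShriek.compEtale (str W)).obj V'' ⟶ W => k • A.obj.map q.op a) (etaleHom_ext ?_)
    change 𝟙 V'.left ≫ h₁.left ≫ V.hom = h₁.left ≫ V.hom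
    exact Category.id_comp _
  exact h'.nonempty_iso_top

end Groth.Agent.Et18.LocCoh
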