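import Groth.Agent.Et18.LocCoh.MuGen
import Mathlib.CategoryTheory.Sites.LocallyBijective

/-!
# Tate twists restrict to Tate twists
-/

set_option autoImplicit false
set_option linter.all false
set_option backward.isDefEq.respectTransparency.types false
set_option backward.isDefEq.respectTransparency false

universe u

open CategoryTheory CategoryTheory.Limits AlgebraicGeometry Opposite
open scoped TensorProduct

namespace Groth.Agent.Et18.LocCoh

variable {X Y : Scheme.{u}} (k : Y ⟶ X) [Etale k] [EtShriek.JCont k]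

theorem exists_lift_covering {V : Y.Etale} {S : Sieve ((EtShriek.compEtale k).obj V)}
    (hS : S ∈ X.smallEtaleTopology _) : S.functorPullback (EtShriek.compEtale k) ∈ Y.smallEtaleTopology V := by
  refine mem_smallEtaleTopology_of_points _ fun v => ?_
  obtain ⟨W, b, hb, w, hw⟩ := exists_mem_of_covering hS v
  have := etale_map_left b
  have : Etale (b.left ≫ V.hom) := MorphismProperty.comp_mem @Etale _ _ inferInstance V.prop
  let V' : Y.Etale := Scheme.Etale.mk (b.left ≫ V.hom)
  let g : V' ⟶ V := MorphismProperty.Over.homMk b.left rfl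
  refine ⟨V', g, w, ?_, inferInstance, hw⟩
  let i : (EtShriek.compEtale k).obj V' ⟶ W := MorphismProperty.Over.homMk (𝟙 W.left) (by
    change 𝟙 W.left ≫ W.hom = (b.left ≫ V.hom) ≫ k
    rw [Category.id_comp, Category.assoc]
    exact (Over.w b.hom).symm)
  change S.arrows ((EtShriek.compEtale k).map g)
  rw [show (EtShriek.compEtale k).map g = i ≫ b from etaleHom_ext (Category.id_comp _).symm]
  exact S.downward_closed hb i

/-- Restriction of a sheafification. -/
theorem nonempty_restr_sheafify (P : X.Etaleᵒᵖ ⥤ AddCommGrpCat.{u + 1}) :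
    Nonempty ((presheafToSheaf Y.smallEtaleTopology AddCommGrpCat.{u + 1}).obj ((EtShriek.compEtale k).op ⋙ P) ≅
      (EtShriek.restrAlong k).obj ((presheafToSheaf X.smallEtaleTopology AddCommGrpCat.{u + 1}).obj P)) := by
  let J := Y.smallEtaleTopology
  let η := toSheafify X.smallEtaleTopology P
  let R := (EtShriek.restrAlong k).obj ((presheafToSheaf X.smallEtaleTopology AddCommGrpCat.{u + 1}).obj P)
  let φ : (EtShriek.compEtale k).op ⋙ P ⟶ R.obj := Functor.whiskerLeft _ η
  have hI : Presheaf.IsLocallyInjective J φ := ⟨fun {V} a b h =>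
    J.superset_covering (fun _ _ hg => hg) (exists_lift_covering k
      (Presheaf.equalizerSieve_mem X.smallEtaleTopology η _ _ h))⟩
  have hS : Presheaf.IsLocallySurjective J φ := ⟨fun {V} s =>
    J.superset_covering (fun _ _ hg => hg) (exists_lift_covering k
      (Presheaf.imageSieve_mem X.smallEtaleTopology η s))⟩
  let e : (presheafToSheaf J AddCommGrpCat.{u + 1}).obj ((EtShriek.compEtale k).op ⋙ P) ⟶ R :=
    ⟨sheafifyLift J φ R.property⟩
  have hfac : toSheafify J _ ≫ e.hom = φ := toSheafify_sheafifyLift _ _ _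
  have h1 : Presheaf.IsLocallyInjective J e.hom :=
    Presheaf.isLocallyInjective_of_isLocallyInjective_of_isLocallySurjective_fac J φ hfac
  have h2 : Presheaf.IsLocallySurjective J e.hom := Presheaf.isLocallySurjective_of_isLocallySurjective_fac J hfac
  have : IsIso e := (Sheaf.isLocallyBijective_iff_isIso e).1 ⟨h1, h2⟩
  exact ⟨asIso e⟩

/-- Tensor products of presheaves of sections respect isomorphisms. -/
noncomputable def tensorPreIso {A A' B B' : EtCoh.Ab X} (e : A ≅ A') (f : B ≅ B') :
    EtDual.tensorPre A B ≅ EtDual.tensorPre A' B' :=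
  NatIso.ofComponents (fun U => AddEquiv.toAddCommGrpIso (TensorProduct.congr
      ((((sheafToPresheaf _ _).mapIso e).app U).addCommGroupIsoToAddEquiv.toIntLinearEquiv)
      ((((sheafToPresheaf _ _).mapIso f).app U).addCommGroupIsoToAddEquiv.toIntLinearEquiv)).toAddEquiv)
    (fun {U V} g => AddCommGrpCat.ext fun z => by
      induction z using TensorProduct.induction_on with
      | zero => simp
      | tmul x y =>
        exact congrArg₂ (fun p q => p ⊗ₜ[ℤ] q) (NatTrans.naturality_apply e.hom.hom g x)
          (NatTrans.naturality_apply f.hom.hom g y)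
      | add p q hp hq => rw [map_add, map_add, hp, hq])

theorem nonempty_restr_tensor (A B : EtCoh.Ab X) (A' B' : EtCoh.Ab Y)
    (e : (EtShriek.restrAlong k).obj A ≅ A') (f : (EtShriek.restrAlong k).obj B ≅ B') :
    Nonempty ((EtShriek.restrAlong k).obj (EtDual.tensorAb A B) ≅ EtDual.tensorAb A' B') := by
  obtain ⟨i⟩ := nonempty_restr_sheafify k (EtDual.tensorPre A B)
  exact ⟨i.symm ≪≫ (presheafToSheaf _ _).mapIso (tensorPreIso e f)⟩

theorem nonempty_restr_mu (n : ℕ) : Nonempty ((EtShriek.restrAlong k).obj (EtCoh.mu X n) ≅ EtCoh.mu Y n) := by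
  let R := EtShriek.restrAlong k
  have : R.Additive := restrAlong_additive' k
  let g : R.obj (EtCoh.Gm X) ≅ EtCoh.Gm Y := Iso.refl _
  refine ⟨PreservesKernel.iso R (EtCoh.powMap X n) ≪≫ kernel.mapIso _ _ g g ?_⟩
  simp only [g, Iso.refl_hom, Category.comp_id, Category.id_comp, EtCoh.powMap, R.map_nsmul, R.map_id]
  rfl

theorem nonempty_restr_const (n : ℕ) :
    Nonempty ((EtShriek.restrAlong k).obj (EtCoh.const X (ZMod n)) ≅ EtCoh.const Y (ZMod n)) :=
  ⟨((pullRestrIso k).app _).symm ≪≫ (EtCore.pullConstIso k).app _⟩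

/-- Tate twists restrict to Tate twists. -/
theorem nonempty_restr_tate (n c : ℕ) :
    Nonempty ((EtShriek.restrAlong k).obj (EtDual.tate X n c) ≅ EtDual.tate Y n c) := by
  induction c with
  | zero => exact nonempty_restr_const k n
  | succ c ih =>
    obtain ⟨e⟩ := ih
    obtain ⟨f⟩ := nonempty_restr_mu k n
    exact nonempty_restr_tensor k _ _ _ _ e f

theorem nonempty_pull_tate (n c : ℕ) :
    Nonempty ((EtCoh.pull k).obj (EtDual.tate X n c) ≅ EtDual.tate Y n c) :=
  (nonempty_restr_tate k n c).map fun e => (pullRestrIso k).app _ ≪≫ e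

end Groth.Agent.Et18.LocCoh
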